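import Cfsg.Agent.Lib.Helper5.TwoPrime.Dich

set_option autoImplicit false

/-!
# Conjugation lemmas for Sylow subgroups and involutions
-/

namespace Cfsg.Agent.Lib.Helper5.TwoPrime

variable {G : Type*} [Group G] [Finite G] {p a : ℕ}

omit [Finite G] in
theorem mem_smul_sylow {l : ℕ} {g y : G} {P : Sylow l G} :
    y ∈ ((g • P : Sylow l G) : Subgroup G) ↔ g⁻¹ * y * g ∈ (P : Subgroup G) := by
  rw [Sylow.coe_subgroup_smul, Subgroup.mem_pointwise_smul_iff_inv_smul_mem]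
  have : (MulAut.conj g)⁻¹ • y = g⁻¹ * y * g := by
    rw [← map_inv, MulAut.smul_def, MulAut.conj_apply, inv_inv]
  rw [this]

omit [Finite G] in
theorem sylow_eq_of_le {l : ℕ} {P P' : Sylow l G} (h : (P' : Subgroup G) ≤ (P : Subgroup G)) :
    P' = P :=
  Sylow.ext (P'.is_maximal' P.isPGroup' h).symm

omit [Finite G] in
theorem smul_eq_iff_mem_Nz {l : ℕ} {g : G} {P : Sylow l G} :
    g • P = P ↔ g ∈ Nz (P : Subgroup G) :=
  Sylow.smul_eq_iff_mem_normalizer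

omit [Finite G] in
theorem Cz_le_Nz (X : Subgroup G) : Cz X ≤ Nz X := Subgroup.centralizer_le_normalizer _

omit [Finite G] in
/-- `z ∈ C(h t h⁻¹) ↔ h⁻¹ z h ∈ C(t)`. -/
theorem mem_Ce_conj {h t z : G} : z ∈ Ce (h * t * h⁻¹) ↔ h⁻¹ * z * h ∈ Ce t := by
  rw [Subgroup.mem_centralizer_singleton_iff, Subgroup.mem_centralizer_singleton_iff]
  constructor
  · intro e
    calc h⁻¹ * z * h * t = h⁻¹ * (z * (h * t * h⁻¹)) * h := by group
      _ = h⁻¹ * ((h * t * h⁻¹) * z) * h := by rw [e]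
      _ = t * (h⁻¹ * z * h) := by group
  · intro e
    calc z * (h * t * h⁻¹) = h * ((h⁻¹ * z * h) * t) * h⁻¹ := by group
      _ = h * (t * (h⁻¹ * z * h)) * h⁻¹ := by rw [e]
      _ = h * t * h⁻¹ * z := by group

namespace Ctx

/-- all involutions are conjugate. -/
theorem conj_invol (c : Ctx G p a) (S : Sylow 2 G) {t s : G} (htS : t ∈ (S : Subgroup G))
    (ht1 : t ≠ 1) (hs : orderOf s = 2) : ∃ h : G, h * t * h⁻¹ = s := by
  obtain ⟨S', hsS'⟩ := exists_sylow_of_two_elt (isPElt_two_of_orderOf hs)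
  obtain ⟨g, hg⟩ := MulAction.exists_smul_eq G S S'
  rw [← hg, mem_smul_sylow] at hsS'
  have hs1 : g⁻¹ * s * g ≠ 1 := by
    intro h
    have : s = 1 := by
      calc s = g * (g⁻¹ * s * g) * g⁻¹ := by group
        _ = 1 := by rw [h]; group
    rw [this, orderOf_one] at hs; omega
  obtain ⟨x, hxN, hx, hxC⟩ := c.ex S
  obtain ⟨k, hk⟩ := c.trans_of S hxN hx hxC htS ht1 hsS' hs1
  refine ⟨g * x ^ k, ?_⟩
  calc g * x ^ k * t * (g * x ^ k)⁻¹ = g * (x ^ k * t * (x ^ k)⁻¹) * g⁻¹ := by group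
    _ = g * (g⁻¹ * s * g) * g⁻¹ := by rw [hk]
    _ = s := by group

/-- an involution has order two, from `s * s = 1` and `s ≠ 1`. -/
theorem orderOf_two_of_sq {s : G} (h : s * s = 1) (h1 : s ≠ 1) : orderOf s = 2 := by
  have := Fact.mk Nat.prime_two
  exact orderOf_eq_prime (by rw [pow_two]; exact h) h1

theorem orderOf_two_of_mem (c : Ctx G p a) (S : Sylow 2 G) {s : G} (hs : s ∈ (S : Subgroup G))
    (h1 : s ≠ 1) : orderOf s = 2 := orderOf_two_of_sq (c.sq S hs) h1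

end Ctx

end Cfsg.Agent.Lib.Helper5.TwoPrime
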