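import Cfsg.Agent.Lib.Helper5.TwoPrime.Util

set_option autoImplicit false

/-!
# The "bad case" context for S4017
`q = 2`, `p = 2^a - 1`, Sylow 2-subgroups of order `2^a` with a `p`-element of the normalizer acting
nontrivially, `p`-subgroups abelian, proper even order subgroups are `{2,p}`-groups, `G` simple and
not a `{2,p}`-group.  The final goal is `Ctx G p a → False`.
-/

namespace Cfsg.Agent.Lib.Helper5.TwoPrime

structure Ctx (G : Type*) [Group G] [Finite G] (p a : ℕ) : Prop where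
  hp : p.Prime
  ha : 2 ≤ a
  hpa : p + 1 = 2 ^ a
  card2 : ∀ S : Sylow 2 G, Nat.card S = 2 ^ a
  pab : ∀ K : Subgroup G, IsPGroup p K → ∀ x ∈ K, ∀ y ∈ K, x * y = y * x
  ex : ∀ S : Sylow 2 G, ∃ x ∈ Nz (S : Subgroup G), IsPElt p x ∧ x ∉ Cz (S : Subgroup G)
  prop : ∀ H : Subgroup G, H ≠ ⊤ → 2 ∣ Nat.card H → ∃ i j, Nat.card H = 2 ^ i * p ^ j
  simple : IsSimpleGroup G
  third : ¬ ∃ i j, Nat.card G = 2 ^ i * p ^ j

variable {G : Type*} [Group G] [Finite G] {p a : ℕ}

namespace Ctx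

theorem four_le (c : Ctx G p a) : 4 ≤ 2 ^ a := by
  calc 4 = 2 ^ 2 := rfl
    _ ≤ 2 ^ a := Nat.pow_le_pow_right (by norm_num) c.ha

theorem p_ge (c : Ctx G p a) : 3 ≤ p := by
  have := c.hpa; have := c.four_le; omega

theorem p_ne_two (c : Ctx G p a) : p ≠ 2 := by
  intro h
  have h1 := c.hpa; have h2 := c.four_le
  have hodd : ¬ 2 ∣ p + 1 := by rw [h]; decide
  apply hodd; rw [h1]; exact dvd_pow_self 2 (by have := c.ha; omega)

theorem two_ne_p (c : Ctx G p a) : 2 ≠ p := fun h => c.p_ne_two h.symm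

/-- a `p`-element of `N(S)` either centralizes `S` or is fixed point free on `S`. -/
theorem fix_dich (c : Ctx G p a) (S : Sylow 2 G) {y : G} (hyN : y ∈ Nz (S : Subgroup G))
    (hy : IsPElt p y) :
    (∀ u ∈ (S : Subgroup G), u * y = y * u → u = 1) ∨ y ∈ Cz (S : Subgroup G) := by
  have := Fact.mk c.hp
  have h1 := card_modEq_card_fix (S : Subgroup G) y hyN hy
  have hS : Nat.card (S : Subgroup G) = 2 ^ a := c.card2 S
  set D : Subgroup G := (S : Subgroup G) ⊓ Ce y with hD
  have hDp : IsPGroup 2 D := S.isPGroup'.to_le inf_le_left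
  obtain ⟨j, hj⟩ := IsPGroup.iff_card.mp hDp
  have hle : Nat.card D ≤ Nat.card (S : Subgroup G) := Subgroup.card_le_of_le inf_le_left
  rw [hS, hj] at h1 hle
  have hdvd : p ∣ 2 ^ a - 2 ^ j := (Nat.modEq_iff_dvd' hle).mp h1.symm
  rw [← c.hpa] at hdvd hle
  have hpos : 1 ≤ 2 ^ j := Nat.one_le_two_pow
  have hp3 := c.p_ge
  obtain ⟨m, hm⟩ := hdvd
  generalize ht : 2 ^ j = t at *
  rcases m with _ | _ | m
  · right
    have hDS : D = (S : Subgroup G) :=
      Subgroup.eq_of_le_of_card_ge inf_le_left (by rw [hS, hj, ← c.hpa]; omega)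
    rw [Subgroup.mem_centralizer_iff]
    intro u hu
    have hu' : u ∈ D := by rw [hDS]; exact hu
    exact Subgroup.mem_centralizer_singleton_iff.mp (Subgroup.mem_inf.mp hu').2
  · left
    have hj1 : t = 1 := by omega
    have hD1 : D = ⊥ := Subgroup.card_eq_one.mp (by rw [hj, hj1])
    intro u hu huy
    have hu' : u ∈ D := Subgroup.mem_inf.mpr ⟨hu, Subgroup.mem_centralizer_singleton_iff.mpr huy⟩
    rw [hD1] at hu'; exact Subgroup.mem_bot.mp hu'
  · exfalso
    have : p * (m + 1 + 1) ≥ 2 * p := by nlinarith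
    omega

/-- a `p`-element of `N(S)` not centralizing `S` acts transitively on `S \ {1}`. -/
theorem trans_of (c : Ctx G p a) (S : Sylow 2 G) {x : G} (hxN : x ∈ Nz (S : Subgroup G))
    (hx : IsPElt p x) (hxC : x ∉ Cz (S : Subgroup G)) {u v : G} (hu : u ∈ (S : Subgroup G))
    (hu1 : u ≠ 1) (hv : v ∈ (S : Subgroup G)) (hv1 : v ≠ 1) :
    ∃ k : ℕ, x ^ k * u * (x ^ k)⁻¹ = v := by
  classical
  have hp := c.hp
  have aux : ∀ k d : ℕ, 0 < d → d < p →
      x ^ k * u * (x ^ k)⁻¹ = x ^ (k + d) * u * (x ^ (k + d))⁻¹ → False := by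
    intro k d hd0 hdp h
    have hcomm : u * x ^ d = x ^ d * u := by
      rw [pow_add] at h
      have e : x ^ k * x ^ d * u * (x ^ k * x ^ d)⁻¹ =
          x ^ k * (x ^ d * u * (x ^ d)⁻¹) * (x ^ k)⁻¹ := by group
      rw [e] at h
      have h3 : u = x ^ d * u * (x ^ d)⁻¹ := mul_left_cancel (mul_right_cancel h)
      calc u * x ^ d = (x ^ d * u * (x ^ d)⁻¹) * x ^ d := by rw [← h3]
        _ = x ^ d * u := by group
    have hyN : x ^ d ∈ Nz (S : Subgroup G) := Subgroup.pow_mem _ hxN d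
    rcases c.fix_dich S hyN (hx.pow hp d) with h1 | h1
    · exact hu1 (h1 u hu hcomm)
    · apply hxC
      obtain ⟨e, he⟩ := hx
      have hcop : Nat.Coprime d (p ^ e) := by
        apply Nat.Coprime.pow_right
        apply Nat.Coprime.symm
        rw [Nat.Prime.coprime_iff_not_dvd hp]
        intro hd
        have := Nat.le_of_dvd hd0 hd
        omega
      refine mem_of_pow_mem_of_coprime x d (p ^ e) hcop h1 ?_
      rw [← he, pow_orderOf_eq_one]; exact Subgroup.one_mem _
  let f : Fin p → G := fun k => x ^ (k : ℕ) * u * (x ^ (k : ℕ))⁻¹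
  have hinj : Function.Injective f := by
    intro i j hij
    by_contra hne
    rcases lt_or_gt_of_ne (fun h => hne (Fin.ext h) : (i : ℕ) ≠ (j : ℕ)) with hlt | hlt
    · have hd : (j : ℕ) = (i : ℕ) + ((j : ℕ) - (i : ℕ)) := by omega
      apply aux (i : ℕ) ((j : ℕ) - (i : ℕ)) (by omega) (by have := j.2; omega)
      rw [← hd]; exact hij
    · have hd : (i : ℕ) = (j : ℕ) + ((i : ℕ) - (j : ℕ)) := by omega
      apply aux (j : ℕ) ((i : ℕ) - (j : ℕ)) (by omega) (by have := i.2; omega)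
      rw [← hd]; exact hij.symm
  have hsub : Set.range f ⊆ ((S : Subgroup G) : Set G) \ {1} := by
    rintro _ ⟨k, rfl⟩
    refine ⟨?_, ?_⟩
    · have hk : x ^ (k : ℕ) ∈ Nz (S : Subgroup G) := Subgroup.pow_mem _ hxN _
      exact (Subgroup.mem_normalizer_iff.mp hk u).mp hu
    · intro h
      rw [Set.mem_singleton_iff] at h
      change x ^ (k : ℕ) * u * (x ^ (k : ℕ))⁻¹ = 1 at h
      apply hu1
      have : u = (x ^ (k : ℕ))⁻¹ * (x ^ (k : ℕ) * u * (x ^ (k : ℕ))⁻¹) * x ^ (k : ℕ) := by group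
      rw [this, h]; group
  have hr : (Set.range f).ncard = p := by
    rw [← Set.image_univ, Set.ncard_image_of_injective _ hinj, Set.ncard_univ,
      Nat.card_eq_fintype_card, Fintype.card_fin]
  have hT : (((S : Subgroup G) : Set G) \ {1}).ncard = p := by
    rw [Set.ncard_sdiff_singleton_of_mem (Subgroup.one_mem _)]
    have h1 : (((S : Subgroup G) : Set G)).ncard = Nat.card (S : Subgroup G) :=
      (Nat.card_coe_set_eq _).symm
    rw [h1, c.card2 S, ← c.hpa]; omega
  have heq : Set.range f = ((S : Subgroup G) : Set G) \ {1} :=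
    Set.eq_of_subset_of_ncard_le hsub (by rw [hr, hT])
  have hvT : v ∈ ((S : Subgroup G) : Set G) \ {1} := ⟨hv, by simpa using hv1⟩
  rw [← heq] at hvT
  obtain ⟨k, hk⟩ := hvT
  exact ⟨k, hk⟩

/-- Sylow 2-subgroups have exponent 2. -/
theorem sq (c : Ctx G p a) (S : Sylow 2 G) {u : G} (hu : u ∈ (S : Subgroup G)) : u * u = 1 := by
  obtain ⟨x, hxN, hx, hxC⟩ := c.ex S
  have h2 : 2 ∣ Nat.card (S : Subgroup G) := by
    rw [c.card2 S]; exact dvd_pow_self 2 (by have := c.ha; omega)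
  obtain ⟨t, ht⟩ := exists_prime_orderOf_dvd_card' (G := (S : Subgroup G)) 2 h2
  have ht' : orderOf (t : G) = 2 := by rw [Subgroup.orderOf_coe]; exact ht
  have ht1 : (t : G) ≠ 1 := by
    intro h; rw [h, orderOf_one] at ht'; omega
  have htt : (t : G) * (t : G) = 1 := by
    have := pow_orderOf_eq_one (t : G)
    rwa [ht', pow_two] at this
  by_cases hu1 : u = 1
  · rw [hu1, mul_one]
  · obtain ⟨k, hk⟩ := c.trans_of S hxN hx hxC t.2 ht1 hu hu1
    rw [← hk]
    calc x ^ k * (t : G) * (x ^ k)⁻¹ * (x ^ k * (t : G) * (x ^ k)⁻¹)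
        = x ^ k * ((t : G) * (t : G)) * (x ^ k)⁻¹ := by group
      _ = 1 := by rw [htt]; group

theorem inv_eq (c : Ctx G p a) (S : Sylow 2 G) {u : G} (hu : u ∈ (S : Subgroup G)) : u⁻¹ = u :=
  inv_eq_of_mul_eq_one_left (c.sq S hu)

/-- Sylow 2-subgroups are abelian. -/
theorem comm (c : Ctx G p a) (S : Sylow 2 G) {u v : G} (hu : u ∈ (S : Subgroup G))
    (hv : v ∈ (S : Subgroup G)) : u * v = v * u := by
  have huu := c.sq S hu
  have hvv := c.sq S hv
  have hvu := c.sq S ((S : Subgroup G).mul_mem hv hu)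
  calc u * v = u * v * ((v * u) * (v * u)) := by rw [hvu, mul_one]
    _ = (u * (v * v) * u) * (v * u) := by group
    _ = v * u := by rw [hvv, mul_one, huu, one_mul]

theorem le_centralizer (c : Ctx G p a) (S : Sylow 2 G) : (S : Subgroup G) ≤ Cz (S : Subgroup G) := by
  intro u hu
  rw [Subgroup.mem_centralizer_iff]
  intro v hv
  exact c.comm S hv hu

/-- a 2-element normalizing a Sylow 2-subgroup lies in it. -/
theorem two_elt_mem (S : Sylow 2 G) {w : G} (hwN : w ∈ Nz (S : Subgroup G)) (hw : IsPElt 2 w) :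
    w ∈ (S : Subgroup G) := by
  have hz : IsPGroup 2 (Subgroup.zpowers w) := hw.zpowers_isPGroup
  have h := hz.inf_normalizer_sylow S
  have hmem : w ∈ Subgroup.zpowers w ⊓ Subgroup.normalizer ((S : Subgroup G) : Set G) :=
    Subgroup.mem_inf.mpr ⟨Subgroup.mem_zpowers w, hwN⟩
  have hmem' : w ∈ Subgroup.zpowers w ⊓ (S : Subgroup G) := by rw [← h]; exact hmem
  exact (Subgroup.mem_inf.mp hmem').2

theorem isPElt_two_of_orderOf {s : G} (hs : orderOf s = 2) : IsPElt 2 s := ⟨1, by rw [hs, pow_one]⟩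

theorem fact_two (c : Ctx G p a) : (Nat.card G).factorization 2 = a := by
  obtain ⟨S⟩ : Nonempty (Sylow 2 G) := inferInstance
  have h1 := S.card_eq_multiplicity
  rw [c.card2 S] at h1
  exact (Nat.pow_right_injective (le_refl 2) h1).symm

/-- order of a proper subgroup containing a Sylow 2-subgroup. -/
theorem card_of_le (c : Ctx G p a) (S : Sylow 2 G) {H : Subgroup G} (hH : H ≠ ⊤)
    (hSH : (S : Subgroup G) ≤ H) : ∃ j, Nat.card H = 2 ^ a * p ^ j := by
  have hS := c.card2 S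
  have hd : 2 ^ a ∣ Nat.card H := by rw [← hS]; exact Subgroup.card_dvd_of_le hSH
  have h2 : 2 ∣ Nat.card H := dvd_trans (dvd_pow_self 2 (by have := c.ha; omega)) hd
  obtain ⟨i, j, hij⟩ := c.prop H hH h2
  refine ⟨j, ?_⟩
  have hcop : Nat.Coprime (2 ^ a) (p ^ j) :=
    Nat.Coprime.pow a j ((Nat.coprime_primes Nat.prime_two c.hp).mpr c.two_ne_p)
  have hia : 2 ^ a ∣ 2 ^ i := by
    rw [hij] at hd; exact hcop.dvd_of_dvd_mul_right hd
  have hai : a ≤ i := (Nat.pow_dvd_pow_iff_le_right (by norm_num)).mp hia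
  have hiG : 2 ^ i ∣ Nat.card G :=
    dvd_trans (Dvd.intro _ hij.symm) (Subgroup.card_subgroup_dvd_card H)
  have hia' : i ≤ a := by
    rw [← c.fact_two]
    exact (Nat.Prime.pow_dvd_iff_le_factorization Nat.prime_two Nat.card_pos.ne').mp hiG
  have : i = a := le_antisymm hia' hai
  rw [hij, this]

theorem center_eq_bot (c : Ctx G p a) : Subgroup.center G = ⊥ := by
  have := c.simple
  rcases (inferInstance : (Subgroup.center G).Normal).eq_bot_or_eq_top with h | h
  · exact h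
  · exfalso
    obtain ⟨S⟩ : Nonempty (Sylow 2 G) := inferInstance
    have hn : (S : Subgroup G).Normal := by
      refine ⟨fun n hn g => ?_⟩
      have hg : g ∈ Subgroup.center G := by rw [h]; exact Subgroup.mem_top g
      have : g * n * g⁻¹ = n := by
        rw [Subgroup.mem_center_iff] at hg
        rw [← hg n, mul_assoc, mul_inv_cancel, mul_one]
      rw [this]; exact hn
    rcases hn.eq_bot_or_eq_top with h1 | h1
    · have := c.card2 S
      rw [h1, Subgroup.card_bot] at this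
      have := c.four_le; omega
    · apply c.third
      refine ⟨a, 0, ?_⟩
      have := c.card2 S
      rw [h1, Subgroup.card_top] at this
      rw [this, pow_zero, mul_one]

theorem centralizer_ne_top (c : Ctx G p a) {g : G} (hg : g ≠ 1) : Ce g ≠ ⊤ := by
  intro h
  apply hg
  have : g ∈ Subgroup.center G := by
    rw [Subgroup.mem_center_iff]
    intro x
    have hx : x ∈ Ce g := by rw [h]; exact Subgroup.mem_top x
    exact Subgroup.mem_centralizer_singleton_iff.mp hx
  rw [c.center_eq_bot] at this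
  exact Subgroup.mem_bot.mp this

theorem normalizer_ne_top (c : Ctx G p a) {X : Subgroup G} (h1 : X ≠ ⊥) (h2 : X ≠ ⊤) : Nz X ≠ ⊤ := by
  intro h
  have := c.simple
  have hn : X.Normal := Subgroup.normalizer_eq_top_iff.mp h
  rcases hn.eq_bot_or_eq_top with h' | h'
  · exact h1 h'
  · exact h2 h'

/-- a `p`-group is not the whole group. -/
theorem ne_top_of_isPGroup (c : Ctx G p a) {X : Subgroup G} (hX : IsPGroup p X) : X ≠ ⊤ := by
  intro h
  have := Fact.mk c.hp
  obtain ⟨k, hk⟩ := IsPGroup.iff_card.mp hX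
  apply c.third
  refine ⟨0, k, ?_⟩
  rw [h, Subgroup.card_top] at hk
  rw [hk, pow_zero, one_mul]

theorem ne_top_of_isPGroup_two (c : Ctx G p a) {X : Subgroup G} (hX : IsPGroup 2 X) : X ≠ ⊤ := by
  intro h
  obtain ⟨k, hk⟩ := IsPGroup.iff_card.mp hX
  apply c.third
  refine ⟨k, 0, ?_⟩
  rw [h, Subgroup.card_top] at hk
  rw [hk, pow_zero, mul_one]

/-- every 2-element lies in a Sylow 2-subgroup. -/
theorem exists_sylow_of_two_elt {s : G} (hs : IsPElt 2 s) : ∃ S : Sylow 2 G, s ∈ (S : Subgroup G) := by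
  obtain ⟨S, hS⟩ := hs.zpowers_isPGroup.exists_le_sylow
  exact ⟨S, hS (Subgroup.mem_zpowers s)⟩

end Ctx

end Cfsg.Agent.Lib.Helper5.TwoPrime
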