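import Cfsg.Agent.Lib.Helper5.TwoPrime.Ctx
import Cfsg.Agent.S0144

set_option autoImplicit false

/-!
# The 2-closed / p-closed dichotomy
In a `Ctx`, every proper subgroup containing a Sylow 2-subgroup `S` either normalizes `S` or has a
normal Sylow `p`-subgroup complementing `S`.
-/

namespace Cfsg.Agent.Lib.Helper5.TwoPrime

variable {G : Type*} [Group G] [Finite G] {p a : ℕ}

open scoped commutatorElement

theorem le_normalizer_of_conj_mem {H X : Subgroup G}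
    (h : ∀ g ∈ H, ∀ u ∈ X, g * u * g⁻¹ ∈ X) : H ≤ Nz X := by
  intro g hg
  rw [Subgroup.mem_normalizer_iff]
  intro u
  constructor
  · exact h g hg u
  · intro hu
    have := h g⁻¹ (H.inv_mem hg) _ hu
    have e : g⁻¹ * (g * u * g⁻¹) * g⁻¹⁻¹ = u := by group
    rwa [e] at this

/-- Elements of two subgroups normalizing each other and meeting trivially commute. -/
theorem comm_of_normalize {X Y : Subgroup G} (hXY : X ⊓ Y = ⊥) {x y : G} (hxX : x ∈ X)
    (hyY : y ∈ Y) (hx : x ∈ Nz Y) (hy : y ∈ Nz X) : x * y = y * x := by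
  have h1 : x * y * x⁻¹ * y⁻¹ ∈ Y :=
    Y.mul_mem ((Subgroup.mem_normalizer_iff.mp hx y).mp hyY) (Y.inv_mem hyY)
  have h2 : x * y * x⁻¹ * y⁻¹ ∈ X := by
    have h3 : y * x⁻¹ * y⁻¹ ∈ X := (Subgroup.mem_normalizer_iff.mp hy x⁻¹).mp (X.inv_mem hxX)
    have e : x * y * x⁻¹ * y⁻¹ = x * (y * x⁻¹ * y⁻¹) := by group
    rw [e]; exact X.mul_mem hxX h3
  have h4 : x * y * x⁻¹ * y⁻¹ ∈ X ⊓ Y := Subgroup.mem_inf.mpr ⟨h2, h1⟩
  rw [hXY, Subgroup.mem_bot] at h4
  calc x * y = (x * y * x⁻¹ * y⁻¹) * (y * x) := by group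
    _ = y * x := by rw [h4, one_mul]

namespace Ctx

theorem inf_eq_bot (c : Ctx G p a) {X Y : Subgroup G} (hX : IsPGroup 2 X) (hY : IsPGroup p Y) :
    X ⊓ Y = ⊥ := by
  have := Fact.mk c.hp
  rw [eq_bot_iff]
  intro z hz
  rw [Subgroup.mem_bot]
  exact eq_one_of_isPElt_of_isPElt Nat.prime_two c.hp c.two_ne_p
    (isPElt_of_mem hX (Subgroup.mem_inf.mp hz).1) (isPElt_of_mem hY (Subgroup.mem_inf.mp hz).2)

/-- `H1 ≤ N(S)`, `S ≤ H1`, `H ≤ N(H1)` imply `H ≤ N(S)`. -/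
theorem norm_up (S : Sylow 2 G) {H H1 : Subgroup G} (h1 : H1 ≤ Nz (S : Subgroup G))
    (h2 : (S : Subgroup G) ≤ H1) (h3 : H ≤ Nz H1) : H ≤ Nz (S : Subgroup G) := by
  apply le_normalizer_of_conj_mem
  intro g hg u hu
  have hu1 : g * u * g⁻¹ ∈ H1 := (Subgroup.mem_normalizer_iff.mp (h3 hg) u).mp (h2 hu)
  have hu2 : IsPElt 2 (g * u * g⁻¹) := (isPElt_of_mem S.isPGroup' hu).conj g
  exact two_elt_mem S (h1 hu1) hu2

/-- If all `p`-elements of `H ∩ N(S)` centralize `S`, then `H ∩ N(S) ≤ C(S)`. -/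
theorem all_centralize (c : Ctx G p a) (S : Sylow 2 G) {H : Subgroup G} {i j : ℕ}
    (hcard : Nat.card H = 2 ^ i * p ^ j)
    (hp : ∀ y ∈ H, y ∈ Nz (S : Subgroup G) → IsPElt p y → y ∈ Cz (S : Subgroup G)) :
    ∀ h ∈ H, h ∈ Nz (S : Subgroup G) → h ∈ Cz (S : Subgroup G) := by
  intro h hH hN
  have hord : orderOf h ∣ 2 ^ i * p ^ j := by
    have := orderOf_dvd_natCard (⟨h, hH⟩ : H)
    rwa [Subgroup.orderOf_mk, hcard] at this
  have hpow : h ^ (2 ^ i * p ^ j) = 1 := orderOf_dvd_iff_pow_eq_one.mp hord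
  have hcop : Nat.Coprime (2 ^ i) (p ^ j) :=
    Nat.Coprime.pow i j ((Nat.coprime_primes Nat.prime_two c.hp).mpr c.two_ne_p)
  refine mem_of_pow_mem_of_coprime h (2 ^ i) (p ^ j) hcop ?_ ?_
  · apply hp _ (H.pow_mem hH _) (Subgroup.pow_mem _ hN _)
    apply isPElt_of_pow_eq_one c.hp (k := j)
    rw [← pow_mul]; exact hpow
  · apply c.le_centralizer S
    apply two_elt_mem S (Subgroup.pow_mem _ hN _)
    apply isPElt_of_pow_eq_one Nat.prime_two (k := i)
    rw [← pow_mul, mul_comm]; exact hpow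

/-- `p`-closed structure of `H` relative to the Sylow 2-subgroup `S`. -/
structure PCl (S : Sylow 2 G) (p a : ℕ) (H V : Subgroup G) : Prop where
  le : V ≤ H
  norm : H ≤ Nz V
  pgroup : IsPGroup p V
  card : Nat.card V * 2 ^ a = Nat.card H
  inf : V ⊓ (S : Subgroup G) = ⊥

/-- In a `p`-closed `H`, the normal Sylow `p`-subgroup contains all `p`-elements. -/
theorem PCl.mem (c : Ctx G p a) {S : Sylow 2 G} {H V : Subgroup G} (h : PCl S p a H V) {y : G}
    (hy : y ∈ H) (hyp : IsPElt p y) : y ∈ V := by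
  have := Fact.mk c.hp
  refine mem_of_isPElt_of_normal_hall h.le h.norm h.pgroup (2 ^ a) h.card.symm ?_ hy hyp
  intro hd
  have := (Nat.prime_dvd_prime_iff_eq c.hp Nat.prime_two).mp (c.hp.dvd_of_dvd_pow hd)
  exact c.p_ne_two this

/-- If `S` centralizes the normal Sylow `p`-subgroup then `H` normalizes `S`. -/
theorem PCl.le_normalizer_of_comm (c : Ctx G p a) {S : Sylow 2 G} {H V : Subgroup G}
    (h : PCl S p a H V) (hSH : (S : Subgroup G) ≤ H)
    (hcomm : ∀ s ∈ (S : Subgroup G), ∀ v ∈ V, s * v = v * s) : H ≤ Nz (S : Subgroup G) := by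
  have := Fact.mk c.hp
  have hVN : V ≤ Nz (S : Subgroup G) := by
    intro v hv
    have : v ∈ Cz (S : Subgroup G) := by
      rw [Subgroup.mem_centralizer_iff]
      intro s hs
      exact hcomm s hs v hv
    exact Subgroup.centralizer_le_normalizer _ this
  have hsup : V ⊔ (S : Subgroup G) ≤ Nz (S : Subgroup G) := sup_le hVN Subgroup.le_normalizer
  have hsupH : V ⊔ (S : Subgroup G) ≤ H := sup_le h.le hSH
  obtain ⟨k, hk⟩ := IsPGroup.iff_card.mp h.pgroup
  have hcop : Nat.Coprime (Nat.card V) (Nat.card (S : Subgroup G)) := by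
    rw [hk, c.card2 S]
    exact Nat.Coprime.pow k a ((Nat.coprime_primes c.hp Nat.prime_two).mpr c.p_ne_two)
  have hd : Nat.card V * Nat.card (S : Subgroup G) ∣ Nat.card (V ⊔ (S : Subgroup G) : Subgroup G) :=
    hcop.mul_dvd_of_dvd_of_dvd (Subgroup.card_dvd_of_le le_sup_left)
      (Subgroup.card_dvd_of_le le_sup_right)
  rw [c.card2 S, h.card] at hd
  have hle : Nat.card H ≤ Nat.card (V ⊔ (S : Subgroup G) : Subgroup G) :=
    Nat.le_of_dvd Nat.card_pos hd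
  have hEq : V ⊔ (S : Subgroup G) = H := Subgroup.eq_of_le_of_card_ge hsupH hle
  rw [← hEq]; exact hsup

/-- Burnside transfer alternative: if no `p`-element of `H ∩ N(S)` acts nontrivially on `S`
then `H` is `p`-closed. -/
theorem pcl_of_all_centralize (c : Ctx G p a) (S : Sylow 2 G) {H : Subgroup G} (hH : H ≠ ⊤)
    (hSH : (S : Subgroup G) ≤ H)
    (hp : ∀ y ∈ H, y ∈ Nz (S : Subgroup G) → IsPElt p y → y ∈ Cz (S : Subgroup G)) :
    ∃ V : Subgroup G, PCl S p a H V := by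
  obtain ⟨j, hj⟩ := c.card_of_le S hH hSH
  have hNC := c.all_centralize S hj hp
  obtain ⟨V, hVH, hHV, hcard, hinf⟩ := exists_normal_compl H S hSH hNC
  rw [c.card2 S] at hcard
  refine ⟨V, hVH, hHV, ?_, hcard, hinf⟩
  have := Fact.mk c.hp
  apply IsPGroup.of_card (n := j)
  rw [hj, mul_comm] at hcard
  exact Nat.eq_of_mul_eq_mul_left (pow_pos (by norm_num) a) hcard

/-- Key induction: a proper subgroup containing `S` and a `p`-element of `N(S)` acting
nontrivially on `S` normalizes `S`. -/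
theorem le_normalizer_of_act (c : Ctx G p a) (S : Sylow 2 G) :
    ∀ (n : ℕ) (H : Subgroup G), Nat.card H = n → H ≠ ⊤ → (S : Subgroup G) ≤ H →
      (∃ x ∈ H, x ∈ Nz (S : Subgroup G) ∧ IsPElt p x ∧ x ∉ Cz (S : Subgroup G)) →
      H ≤ Nz (S : Subgroup G) := by
  intro n
  induction n using Nat.strong_induction_on with
  | _ n ih =>
  intro H hn hHtop hSH hex
  obtain ⟨x, hxH, hxN, hx, hxC⟩ := hex
  have := Fact.mk c.hp
  obtain ⟨j, hj⟩ := c.card_of_le S hHtop hSH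
  have hsolv : Group.IsSolvable H := Cfsg.Agent.S0144.result 2 p a j Nat.prime_two c.hp hj
  have hnt : Nontrivial H := by
    rw [← Finite.one_lt_card_iff_nontrivial, hj]
    have h1 := c.four_le
    have h2 : 1 ≤ p ^ j := Nat.one_le_pow _ _ c.hp.pos
    nlinarith
  have hlt := Group.IsSolvable.commutator_lt_top_of_nontrivial H
  set H1 : Subgroup G := ⁅H, H⁆ with hH1
  have hH1H : H1 ≤ H := by
    rw [hH1, Subgroup.commutator_le]
    intro g₁ h₁ g₂ h₂
    rw [commutatorElement_def]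
    exact H.mul_mem (H.mul_mem (H.mul_mem h₁ h₂) (H.inv_mem h₁)) (H.inv_mem h₂)
  have hH1ne : H1 ≠ H := by
    intro h
    apply hlt.ne
    apply Subgroup.map_injective H.subtype_injective
    rw [Subgroup.map_subtype_commutator, ← hH1, h, ← MonoidHom.range_eq_map, Subgroup.range_subtype]
  have hcardlt : Nat.card H1 < n := by
    rw [← hn]
    by_contra hge
    exact hH1ne (Subgroup.eq_of_le_of_card_ge hH1H (not_lt.mp hge))
  have hH1top : H1 ≠ ⊤ := by
    intro h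
    apply hHtop
    rw [eq_top_iff, ← h]; exact hH1H
  have hnormH1 : H ≤ Nz H1 := by
    apply le_normalizer_of_conj_mem
    intro g hg z hz
    have h1 : ⁅g, z⁆ ∈ H1 := Subgroup.commutator_mem_commutator hg (hH1H hz)
    have e : g * z * g⁻¹ = ⁅g, z⁆ * z := by rw [commutatorElement_def]; group
    rw [e]; exact H1.mul_mem h1 hz
  -- an element of `S` moved by `x`
  obtain ⟨u, huS, hux⟩ : ∃ u ∈ (S : Subgroup G), u * x ≠ x * u := by
    by_contra hcon
    push Not at hcon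
    apply hxC
    rw [Subgroup.mem_centralizer_iff]
    exact hcon
  have hxinvN : x⁻¹ ∈ Nz (S : Subgroup G) := Subgroup.inv_mem _ hxN
  set cu : G := u⁻¹ * x⁻¹ * u * x with hcu
  have hcuS : cu ∈ (S : Subgroup G) := by
    have h1 : x⁻¹ * u * x⁻¹⁻¹ ∈ (S : Subgroup G) := (Subgroup.mem_normalizer_iff.mp hxinvN u).mp huS
    have e : cu = u⁻¹ * (x⁻¹ * u * x⁻¹⁻¹) := by rw [hcu]; group
    rw [e]; exact (S : Subgroup G).mul_mem ((S : Subgroup G).inv_mem huS) h1
  have hcuH1 : cu ∈ H1 := by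
    have h1 : ⁅u⁻¹, x⁻¹⁆ ∈ H1 :=
      Subgroup.commutator_mem_commutator (H.inv_mem (hSH huS)) (H.inv_mem hxH)
    have e : cu = ⁅u⁻¹, x⁻¹⁆ := by rw [hcu, commutatorElement_def]; group
    rw [e]; exact h1
  have hcu1 : cu ≠ 1 := by
    intro h
    apply hux
    have e : u * x = x * u * cu := by rw [hcu]; group
    rw [e, h, mul_one]
  have hSH1 : (S : Subgroup G) ≤ H1 := by
    intro v hv
    by_cases hv1 : v = 1
    · rw [hv1]; exact H1.one_mem
    · obtain ⟨k, hk⟩ := c.trans_of S hxN hx hxC hcuS hcu1 hv hv1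
      rw [← hk]
      exact (Subgroup.mem_normalizer_iff.mp (hnormH1 (H.pow_mem hxH k)) cu).mp hcuH1
  by_cases hA : ∃ x1 ∈ H1, x1 ∈ Nz (S : Subgroup G) ∧ IsPElt p x1 ∧ x1 ∉ Cz (S : Subgroup G)
  · exact norm_up S (ih (Nat.card H1) hcardlt H1 rfl hH1top hSH1 hA) hSH1 hnormH1
  · push Not at hA
    obtain ⟨V, hV⟩ := c.pcl_of_all_centralize S hH1top hSH1
      (fun y hy hyN hyp => by
        by_contra hyC
        exact hyC (hA y hy hyN hyp))
    -- `H` normalizes `V`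
    have hHV : H ≤ Nz V := by
      apply le_normalizer_of_conj_mem
      intro g hg v hv
      apply hV.mem c
      · exact (Subgroup.mem_normalizer_iff.mp (hnormH1 hg) v).mp (hV.le hv)
      · exact (isPElt_of_mem hV.pgroup hv).conj g
    -- `x` centralizes `V`
    have hxV : ∀ v ∈ V, x * v = v * x := by
      have hzn : Subgroup.zpowers x ≤ Nz V := by
        rw [Subgroup.zpowers_le]; exact hHV hxH
      have hL : IsPGroup p (V ⊔ Subgroup.zpowers x : Subgroup G) :=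
        IsPGroup.to_sup_of_normal_left' hV.pgroup hx.zpowers_isPGroup hzn
      intro v hv
      exact c.pab _ hL x ((le_sup_right : Subgroup.zpowers x ≤ _) (Subgroup.mem_zpowers x)) v
        ((le_sup_left : V ≤ _) hv)
    -- conjugates of `x⁻¹` under `H` centralize `V`
    have hconjV : ∀ g ∈ H, ∀ v ∈ V, (g * x⁻¹ * g⁻¹) * v = v * (g * x⁻¹ * g⁻¹) := by
      intro g hg v hv
      have hv' : g⁻¹ * v * g⁻¹⁻¹ ∈ V :=
        (Subgroup.mem_normalizer_iff.mp (hHV (H.inv_mem hg)) v).mp hv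
      have h1 := hxV _ hv'
      have h2 : x⁻¹ * (g⁻¹ * v * g⁻¹⁻¹) = (g⁻¹ * v * g⁻¹⁻¹) * x⁻¹ := by
        calc x⁻¹ * (g⁻¹ * v * g⁻¹⁻¹) = x⁻¹ * ((g⁻¹ * v * g⁻¹⁻¹) * x) * x⁻¹ := by group
          _ = x⁻¹ * (x * (g⁻¹ * v * g⁻¹⁻¹)) * x⁻¹ := by rw [h1]
          _ = (g⁻¹ * v * g⁻¹⁻¹) * x⁻¹ := by group
      calc (g * x⁻¹ * g⁻¹) * v = g * (x⁻¹ * (g⁻¹ * v * g⁻¹⁻¹)) * g⁻¹ := by group
        _ = g * ((g⁻¹ * v * g⁻¹⁻¹) * x⁻¹) * g⁻¹ := by rw [h2]
        _ = v * (g * x⁻¹ * g⁻¹) := by group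
    have hcuV : cu ∈ Cz V := by
      rw [Subgroup.mem_centralizer_iff]
      intro v hv
      have h1 := hconjV u⁻¹ (H.inv_mem (hSH huS)) v hv
      have h2 := hxV v hv
      have e : cu = (u⁻¹ * x⁻¹ * u⁻¹⁻¹) * x := by rw [hcu]; group
      rw [e]
      calc v * (u⁻¹ * x⁻¹ * u⁻¹⁻¹ * x) = (v * (u⁻¹ * x⁻¹ * u⁻¹⁻¹)) * x := by group
        _ = ((u⁻¹ * x⁻¹ * u⁻¹⁻¹) * v) * x := by rw [h1]
        _ = (u⁻¹ * x⁻¹ * u⁻¹⁻¹) * (v * x) := by group
        _ = (u⁻¹ * x⁻¹ * u⁻¹⁻¹) * (x * v) := by rw [h2]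
        _ = u⁻¹ * x⁻¹ * u⁻¹⁻¹ * x * v := by group
    have hxCV : x ∈ Cz V := by
      rw [Subgroup.mem_centralizer_iff]
      intro v hv
      exact (hxV v hv).symm
    have hSV : ∀ s ∈ (S : Subgroup G), ∀ v ∈ V, s * v = v * s := by
      intro s hs v hv
      by_cases hs1 : s = 1
      · rw [hs1, one_mul, mul_one]
      · obtain ⟨k, hk⟩ := c.trans_of S hxN hx hxC hcuS hcu1 hs hs1
        have hmem : s ∈ Cz V := by
          rw [← hk]
          exact Subgroup.mul_mem _ (Subgroup.mul_mem _ (Subgroup.pow_mem _ hxCV k) hcuV)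
            (Subgroup.inv_mem _ (Subgroup.pow_mem _ hxCV k))
        exact (Subgroup.mem_centralizer_iff.mp hmem v hv).symm
    exact norm_up S (hV.le_normalizer_of_comm c hSH1 hSV) hSH1 hnormH1

/-- The dichotomy. -/
theorem dich (c : Ctx G p a) (S : Sylow 2 G) {H : Subgroup G} (hH : H ≠ ⊤)
    (hSH : (S : Subgroup G) ≤ H) :
    H ≤ Nz (S : Subgroup G) ∨ ∃ V : Subgroup G, PCl S p a H V := by
  by_cases hA : ∃ x ∈ H, x ∈ Nz (S : Subgroup G) ∧ IsPElt p x ∧ x ∉ Cz (S : Subgroup G)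
  · exact Or.inl (c.le_normalizer_of_act S (Nat.card H) H rfl hH hSH hA)
  · right
    push Not at hA
    exact c.pcl_of_all_centralize S hH hSH (fun y hy hyN hyp => by
      by_contra hyC
      exact hyC (hA y hy hyN hyp))

end Ctx

end Cfsg.Agent.Lib.Helper5.TwoPrime
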