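import Cfsg.Agent.Lib.Helper5.TwoPrime.TypeIA

set_option autoImplicit false

/-!
# Type I: counting pairs of involutions
With the configuration `T1Cfg`, counting ordered pairs of involutions gives
`2 i = (p+1)(|P|-1) + 2p` with `p ∣ i`, a contradiction.
-/

namespace Cfsg.Agent.Lib.Helper5.TwoPrime

variable {G : Type*} [Group G] [Finite G] {p a : ℕ}

theorem card_filter_product_eq_sum {α : Type*} [DecidableEq α] (I : Finset α) (R : α → α → Prop)
    [DecidableRel R] :
    ((I ×ˢ I).filter (fun q => R q.1 q.2)).card = ∑ s ∈ I, (I.filter (R s)).card := by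
  rw [Finset.card_filter, Finset.sum_product]
  apply Finset.sum_congr rfl
  intro s _
  rw [Finset.card_filter]

theorem card_filter_mem_subgroup [Fintype G] (H : Subgroup G) [DecidablePred (· ∈ H)] :
    (Finset.univ.filter (· ∈ H)).card = Nat.card H := by
  rw [Nat.card_eq_fintype_card, Fintype.card_subtype]

namespace Ctx

namespace T1Cfg

variable {P : Sylow p G} {s : G}

/-- the number of involutions times `2^a` is `|G|`. -/
theorem card_invol [Fintype G] [DecidableEq G] (h : T1Cfg p P s) (c : Ctx G p a) :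
    (Finset.univ.filter (fun g : G => orderOf g = 2)).card * 2 ^ a = Nat.card G := by
  classical
  obtain ⟨S, hsS⟩ := exists_sylow_of_two_elt (isPElt_two_of_orderOf h.hs)
  have hs1 := ne_one_of_orderOf_two h.hs
  have hCe : Ce s = (S : Subgroup G) := h.cent_invol c h.hs S hsS
  have hcardCe : Nat.card (Ce s) = 2 ^ a := by rw [hCe]; exact c.card2 S
  have hmaps : ∀ x ∈ (Finset.univ : Finset G),
      x * s * x⁻¹ ∈ Finset.univ.filter (fun g : G => orderOf g = 2) := by
    intro x _
    rw [Finset.mem_filter]
    refine ⟨Finset.mem_univ _, ?_⟩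
    have := (MulAut.conj x).orderOf_eq s
    rw [MulAut.conj_apply] at this
    rw [this, h.hs]
  have h1 := Finset.card_eq_sum_card_fiberwise hmaps
  have hfib : ∀ b ∈ Finset.univ.filter (fun g : G => orderOf g = 2),
      ((Finset.univ : Finset G).filter (fun x => x * s * x⁻¹ = b)).card = 2 ^ a := by
    intro b hb
    rw [Finset.mem_filter] at hb
    obtain ⟨h0, hh0⟩ := c.conj_invol S hsS hs1 hb.2
    have hEq : (Finset.univ : Finset G).filter (fun x => x * s * x⁻¹ = b) =
        (Finset.univ.filter (· ∈ Ce s)).image (fun z => h0 * z) := by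
      ext x
      simp only [Finset.mem_filter, Finset.mem_univ, true_and, Finset.mem_image]
      constructor
      · intro hx
        refine ⟨h0⁻¹ * x, ?_, by group⟩
        rw [Subgroup.mem_centralizer_singleton_iff]
        -- (h0⁻¹ x) s = s (h0⁻¹ x)
        have e : x * s * x⁻¹ = h0 * s * h0⁻¹ := hx.trans hh0.symm
        calc h0⁻¹ * x * s = h0⁻¹ * (x * s * x⁻¹) * x := by group
          _ = h0⁻¹ * (h0 * s * h0⁻¹) * x := by rw [e]
          _ = s * (h0⁻¹ * x) := by group
      · rintro ⟨z, hz, rfl⟩
        rw [Subgroup.mem_centralizer_singleton_iff] at hz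
        rw [← hh0]
        calc h0 * z * s * (h0 * z)⁻¹ = h0 * (z * s) * z⁻¹ * h0⁻¹ := by group
          _ = h0 * (s * z) * z⁻¹ * h0⁻¹ := by rw [hz]
          _ = h0 * s * h0⁻¹ := by group
    rw [hEq, Finset.card_image_of_injective _ (mul_right_injective h0), card_filter_mem_subgroup,
      hcardCe]
  rw [Finset.sum_congr rfl hfib, Finset.sum_const, smul_eq_mul] at h1
  rw [← h1, Nat.card_eq_fintype_card, Finset.card_univ]

/-- for an involution `s'`, the involutions commuting with it number `2^a - 1`. -/
theorem card_comm_invol [Fintype G] [DecidableEq G] (h : T1Cfg p P s) (c : Ctx G p a) {s' : G}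
    (hs' : orderOf s' = 2) :
    ((Finset.univ.filter (fun g : G => orderOf g = 2)).filter
      (fun t => s' * t = t * s')).card + 1 = 2 ^ a := by
  classical
  obtain ⟨S, hsS⟩ := exists_sylow_of_two_elt (isPElt_two_of_orderOf hs')
  have hCe : Ce s' = (S : Subgroup G) := h.cent_invol c hs' S hsS
  have hEq : (Finset.univ.filter (fun g : G => orderOf g = 2)).filter
      (fun t => s' * t = t * s') = (Finset.univ.filter (· ∈ Ce s')).erase 1 := by
    ext t
    simp only [Finset.mem_filter, Finset.mem_univ, true_and, Finset.mem_erase]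
    constructor
    · rintro ⟨ht, hcomm⟩
      exact ⟨ne_one_of_orderOf_two ht, Subgroup.mem_centralizer_singleton_iff.mpr hcomm.symm⟩
    · rintro ⟨ht1, ht⟩
      refine ⟨?_, (Subgroup.mem_centralizer_singleton_iff.mp ht).symm⟩
      rw [hCe] at ht
      exact c.orderOf_two_of_mem S ht ht1
  rw [hEq, Finset.card_erase_of_mem (by simp), card_filter_mem_subgroup, hCe, c.card2 S]
  have := c.four_le
  omega

/-- the set `N(P') \ P'` has `|P'|` elements. -/
theorem card_outside [Fintype G] [DecidableEq G] {P' : Sylow p G} {s' : G} (h : T1Cfg p P' s')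
    (c : Ctx G p a)
    [DecidablePred (fun z : G => z ∈ Nz (P' : Subgroup G) ∧ z ∉ (P' : Subgroup G))] :
    (Finset.univ.filter (fun z : G => z ∈ Nz (P' : Subgroup G) ∧ z ∉ (P' : Subgroup G))).card =
      Nat.card (P' : Subgroup G) := by
  classical
  have hEq : Finset.univ.filter (fun z : G => z ∈ Nz (P' : Subgroup G) ∧ z ∉ (P' : Subgroup G)) =
      (Finset.univ.filter (· ∈ Nz (P' : Subgroup G))) \
        (Finset.univ.filter (· ∈ (P' : Subgroup G))) := by
    ext z
    simp only [Finset.mem_filter, Finset.mem_univ, true_and, Finset.mem_sdiff]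
  have hsub : (Finset.univ.filter (· ∈ (P' : Subgroup G))) ⊆
      (Finset.univ.filter (· ∈ Nz (P' : Subgroup G))) := by
    intro z hz
    simp only [Finset.mem_filter, Finset.mem_univ, true_and] at hz ⊢
    exact Subgroup.le_normalizer hz
  rw [hEq, Finset.card_sdiff_of_subset hsub, card_filter_mem_subgroup, card_filter_mem_subgroup,
    h.card_normalizer c]
  omega

end T1Cfg

/-- Type I is impossible. -/
theorem typeI_false (c : Ctx G p a) (hT1 : T1 G) : False := by
  classical
  have hpF := Fact.mk c.hp
  have := Fintype.ofFinite G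
  -- a pair of non-commuting involutions
  obtain ⟨S⟩ : Nonempty (Sylow 2 G) := inferInstance
  have h4 := c.four_le
  have hcardS := c.card2 S
  obtain ⟨t0, ht0S, ht01⟩ : ∃ t ∈ (S : Subgroup G), t ≠ 1 := by
    by_contra hcon
    push Not at hcon
    have hb : (S : Subgroup G) = ⊥ := by
      rw [eq_bot_iff]; intro z hz; exact Subgroup.mem_bot.mpr (hcon z hz)
    rw [hb, Subgroup.card_bot] at hcardS; omega
  have ht0 : orderOf t0 = 2 := c.orderOf_two_of_mem S ht0S ht01
  have hex : ∃ s t : G, orderOf s = 2 ∧ orderOf t = 2 ∧ s * t ≠ t * s := by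
    by_contra hcon
    push Not at hcon
    -- all involutions commute: the subgroup generated by involutions is a normal 2-group
    have hSn : (S : Subgroup G).Normal := by
      refine ⟨fun n hn g => ?_⟩
      by_cases hn1 : n = 1
      · rw [hn1]; simp
      · have hn2 : orderOf n = 2 := c.orderOf_two_of_mem S hn hn1
        have hc2 : orderOf (g * n * g⁻¹) = 2 := by
          have := (MulAut.conj g).orderOf_eq n
          rw [MulAut.conj_apply] at this
          rw [this, hn2]
        -- `g n g⁻¹` commutes with `t0`, so lies in `C(t0) ≤ N(S)`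
        have hcm := hcon t0 (g * n * g⁻¹) ht0 hc2
        have hmem : g * n * g⁻¹ ∈ Ce t0 := Subgroup.mem_centralizer_singleton_iff.mpr hcm.symm
        exact t1_two_elt hT1 S ht0S ht01 hmem (isPElt_two_of_orderOf hc2)
    have hsimple := c.simple
    rcases hSn.eq_bot_or_eq_top with hb | hb
    · rw [hb, Subgroup.card_bot] at hcardS; omega
    · exact c.ne_top_of_isPGroup_two S.isPGroup' hb
  obtain ⟨s, t, hs, ht, hst⟩ := hex
  obtain ⟨P, h⟩ := c.t1_cfg hT1 hs ht hst
  -- notation
  set I : Finset G := Finset.univ.filter (fun g : G => orderOf g = 2) with hI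
  set A : Finset (G × G) := (I ×ˢ I).filter (fun q => q.1 * q.2 ≠ q.2 * q.1) with hA
  have hIcard : I.card * 2 ^ a = Nat.card G := h.card_invol c
  -- count 1
  have hcount1 : A.card + I.card * (2 ^ a - 1) = I.card * I.card := by
    have h2 : ((I ×ˢ I).filter (fun q : G × G => q.1 * q.2 = q.2 * q.1)).card =
        I.card * (2 ^ a - 1) := by
      rw [card_filter_product_eq_sum I (fun x y => x * y = y * x)]
      have h3 : ∀ s' ∈ I, (I.filter (fun t => s' * t = t * s')).card = 2 ^ a - 1 := by
        intro s' hs'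
        have hs'2 : orderOf s' = 2 := by
          rw [hI, Finset.mem_filter] at hs'; exact hs'.2
        have h4 := h.card_comm_invol c hs'2
        rw [← hI] at h4
        omega
      rw [Finset.sum_congr rfl h3, Finset.sum_const, smul_eq_mul]
    have hAeq : A = (I ×ˢ I) \ ((I ×ˢ I).filter (fun q : G × G => q.1 * q.2 = q.2 * q.1)) := by
      rw [hA]
      ext q
      simp only [Finset.mem_filter, Finset.mem_sdiff]
      tauto
    have hle : ((I ×ˢ I).filter (fun q : G × G => q.1 * q.2 = q.2 * q.1)).card ≤
        (I ×ˢ I).card := Finset.card_le_card (Finset.filter_subset _ _)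
    rw [hAeq, Finset.card_sdiff_of_subset (Finset.filter_subset _ _)]
    rw [Finset.card_product] at hle ⊢
    rw [h2] at hle ⊢
    exact Nat.sub_add_cancel hle
  -- count 2
  have := Fintype.ofFinite (Sylow p G)
  have hPcard : ∀ P' : Sylow p G, Nat.card (P' : Subgroup G) = Nat.card (P : Subgroup G) := by
    intro P'
    rw [P'.card_eq_multiplicity, P.card_eq_multiplicity]
  let ψ : G × G → Sylow p G := fun q =>
    if hq : ∃ P' : Sylow p G, (P' : Subgroup G) = Ce (q.1 * q.2) then hq.choose else P
  have hψ : ∀ (q : G × G) (P' : Sylow p G), (P' : Subgroup G) = Ce (q.1 * q.2) → ψ q = P' := by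
    intro q P' hP'
    have hq : ∃ P' : Sylow p G, (P' : Subgroup G) = Ce (q.1 * q.2) := ⟨P', hP'⟩
    show (if hq : ∃ P' : Sylow p G, (P' : Subgroup G) = Ce (q.1 * q.2) then hq.choose else P) = P'
    rw [dif_pos hq]
    exact Sylow.ext (hq.choose_spec.trans hP'.symm)
  have h1 := Finset.card_eq_sum_card_fiberwise (f := ψ) (s := A) (t := Finset.univ)
    (fun _ _ => Finset.mem_univ _)
  have hfib : ∀ P' ∈ (Finset.univ : Finset (Sylow p G)),
      (A.filter (fun q => ψ q = P')).card =
        Nat.card (P : Subgroup G) * Nat.card (P : Subgroup G) - Nat.card (P : Subgroup G) := by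
    intro P' _
    obtain ⟨s', h'⟩ := h.all c P'
    set D : Finset G :=
      Finset.univ.filter (fun z : G => z ∈ Nz (P' : Subgroup G) ∧ z ∉ (P' : Subgroup G)) with hD
    have hDcard : D.card = Nat.card (P : Subgroup G) := by
      rw [hD, h'.card_outside c, hPcard P']
    have hEq : A.filter (fun q => ψ q = P') = D.offDiag := by
      ext q
      obtain ⟨s1, t1⟩ := q
      simp only [hA, hI, hD, Finset.mem_filter, Finset.mem_product, Finset.mem_univ, true_and,
        Finset.mem_offDiag]
      constructor
      · rintro ⟨⟨⟨hs1, ht1⟩, hne⟩, hψq⟩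
        obtain ⟨hg, hg1, hinv⟩ := c.t1_prod hT1 hs1 ht1 hne
        obtain ⟨P'', hP''⟩ := c.t1_sylow hT1 hg hg1 hs1 hinv
        have hP'eq : P'' = P' := (hψ (s1, t1) P'' hP'').symm.trans hψq
        rw [hP'eq] at hP''
        have hs1N : s1 ∈ Nz (P' : Subgroup G) := by
          apply invol_mem_normalizer (sq_of_orderOf_two hs1)
          intro u hu
          rw [hP''] at hu ⊢
          exact conj_mem_Ce_of_inv hinv hu
        have hgP : s1 * t1 ∈ (P' : Subgroup G) := by
          rw [hP'']; exact Subgroup.mem_centralizer_singleton_iff.mpr rfl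
        have hnotP : ∀ z : G, orderOf z = 2 → z ∉ (P' : Subgroup G) := by
          intro z hz hzP
          exact ne_one_of_orderOf_two hz (eq_one_of_isPElt_of_isPElt c.hp Nat.prime_two
            c.p_ne_two (isPElt_of_mem P'.isPGroup' hzP) (isPElt_two_of_orderOf hz))
        have ht1N : t1 ∈ Nz (P' : Subgroup G) := by
          have e : t1 = s1⁻¹ * (s1 * t1) := by group
          rw [e]
          exact Subgroup.mul_mem _ (Subgroup.inv_mem _ hs1N) (Subgroup.le_normalizer hgP)
        refine ⟨⟨hs1N, hnotP s1 hs1⟩, ⟨ht1N, hnotP t1 ht1⟩, ?_⟩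
        intro e
        apply hne
        rw [e]
      · rintro ⟨⟨hs1N, hs1P⟩, ⟨ht1N, ht1P⟩, hne⟩
        have hs1 := h'.outside c hs1N hs1P
        have ht1 := h'.outside c ht1N ht1P
        have hs1i := h'.invol_inverts c hs1 hs1N
        have ht1i := h'.invol_inverts c ht1 ht1N
        have htt := sq_of_orderOf_two ht1
        have hss := sq_of_orderOf_two hs1
        have hti : t1⁻¹ = t1 := inv_eq_of_mul_eq_one_left htt
        have hgP : s1 * t1 ∈ (P' : Subgroup G) := by
          apply h'.centralizer_le
          rw [Subgroup.mem_centralizer_iff]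
          intro y hy
          have e1 := ht1i y hy
          have e2 := hs1i _ (Subgroup.inv_mem _ hy)
          rw [inv_inv] at e2
          have e3 : s1 * t1 * y * (s1 * t1)⁻¹ = y := by
            calc s1 * t1 * y * (s1 * t1)⁻¹ = s1 * (t1 * y * t1⁻¹) * s1⁻¹ := by group
              _ = s1 * y⁻¹ * s1⁻¹ := by rw [e1]
              _ = y := e2
          calc y * (s1 * t1) = (s1 * t1 * y * (s1 * t1)⁻¹) * (s1 * t1) := by rw [e3]
            _ = s1 * t1 * y := by group
        have hg1 : s1 * t1 ≠ 1 := by
          intro e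
          apply hne
          have : t1 = s1⁻¹ := eq_inv_of_mul_eq_one_right e
          rw [this, inv_eq_of_mul_eq_one_left hss]
        have hnc : s1 * t1 ≠ t1 * s1 := by
          intro e
          apply hg1
          have hsq : (s1 * t1) ^ 2 ^ 1 = 1 := by
            rw [pow_one, pow_two]
            calc s1 * t1 * (s1 * t1) = s1 * (t1 * s1) * t1 := by group
              _ = s1 * (s1 * t1) * t1 := by rw [e]
              _ = (s1 * s1) * (t1 * t1) := by group
              _ = 1 := by rw [hss, htt, one_mul]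
          exact eq_one_of_isPElt_of_isPElt c.hp Nat.prime_two c.p_ne_two
            (isPElt_of_mem P'.isPGroup' hgP) (isPElt_of_pow_eq_one Nat.prime_two hsq)
        refine ⟨⟨⟨hs1, ht1⟩, hnc⟩, ?_⟩
        exact hψ (s1, t1) P' (h'.cent _ hgP hg1).symm
    rw [hEq, Finset.offDiag_card, hDcard]
  rw [Finset.sum_congr rfl hfib, Finset.sum_const, smul_eq_mul, Finset.card_univ] at h1
  -- number of Sylow p-subgroups
  have hnp : Fintype.card (Sylow p G) * (2 * Nat.card (P : Subgroup G)) = Nat.card G := by
    have e1 := Sylow.card_eq_index_normalizer P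
    have e2 := Subgroup.card_mul_index (Nz (P : Subgroup G))
    rw [h.card_normalizer c] at e2
    rw [← Nat.card_eq_fintype_card, e1, mul_comm]
    exact e2
  -- arithmetic
  obtain ⟨b, hb⟩ := IsPGroup.iff_card.mp P.isPGroup'
  have hb0 : b ≠ 0 := by
    intro hb0
    rw [hb0, pow_zero] at hb
    exact h.ne (Subgroup.card_eq_one.mp hb)
  have hpP : p ∣ Nat.card (P : Subgroup G) := by rw [hb]; exact dvd_pow_self p hb0
  have hn : 2 ^ a = p + 1 := c.hpa.symm
  have hpG : p ∣ Nat.card G := dvd_trans hpP (Subgroup.card_subgroup_dvd_card _)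
  have hpI : p ∣ I.card := by
    rw [← hIcard] at hpG
    rcases (Nat.Prime.dvd_mul c.hp).mp hpG with h5 | h5
    · exact h5
    · exfalso
      rw [hn] at h5
      have : p ∣ 1 := (Nat.dvd_add_right (dvd_refl p)).mp h5
      have := Nat.le_of_dvd one_pos this
      have := c.p_ge; omega
  have hIpos : 0 < I.card := by
    apply Finset.card_pos.mpr
    exact ⟨s, by rw [hI, Finset.mem_filter]; exact ⟨Finset.mem_univ _, hs⟩⟩
  obtain ⟨i1, hi1⟩ := hpI
  obtain ⟨P1, hP1⟩ := hpP
  have hPpos : 0 < Nat.card (P : Subgroup G) := Nat.card_pos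
  generalize Nat.card (P : Subgroup G) = cP at *
  generalize Fintype.card (Sylow p G) = k at *
  generalize I.card = i at *
  generalize A.card = cA at *
  generalize Nat.card G = N at *
  rw [hn] at hcount1 hIcard
  have hp3 := c.p_ge
  -- everything in ℤ
  have hcP1 : (1 : ℤ) ≤ cP := by exact_mod_cast hPpos
  have e1 : (cA : ℤ) = k * (cP * cP - cP) := by
    have : cP ≤ cP * cP := Nat.le_mul_self cP
    rw [h1]; push_cast [Nat.cast_sub this]; ring
  have e2 : (k : ℤ) * (2 * cP) = N := by exact_mod_cast hnp
  have e3 : (i : ℤ) * (p + 1) = N := by exact_mod_cast hIcard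
  have e4 : (cA : ℤ) + i * p = i * i := by
    have : (p + 1 - 1 : ℕ) = p := by omega
    rw [this] at hcount1
    exact_mod_cast hcount1
  have e5 : (i : ℤ) = p * i1 := by exact_mod_cast hi1
  have e6 : (cP : ℤ) = p * P1 := by exact_mod_cast hP1
  have hipos : (0 : ℤ) < i := by exact_mod_cast hIpos
  -- 2 i i = i (p+1) (cP - 1) + 2 i p
  have e7 : (i : ℤ) * (2 * i) = i * ((p + 1) * (cP - 1) + 2 * p) := by
    have : (2 : ℤ) * cA = N * (cP - 1) := by rw [e1, ← e2]; ring
    linear_combination (-2 : ℤ) * e4 + this - ((cP : ℤ) - 1) * e3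
  have e8 : (2 : ℤ) * i = (p + 1) * (cP - 1) + 2 * p := by
    exact mul_left_cancel₀ hipos.ne' e7
  have e9 : (p : ℤ) * ((p + 1) * P1 + 1 - 2 * i1) = 1 := by
    rw [e5, e6] at e8
    linear_combination (-1 : ℤ) * e8
  have hdvd : (p : ℤ) ∣ 1 := Dvd.intro _ e9
  have : p ∣ 1 := by exact_mod_cast hdvd
  have := Nat.le_of_dvd one_pos this
  omega

end Ctx

end Cfsg.Agent.Lib.Helper5.TwoPrime
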