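import Cfsg.Agent.Lib.Helper5.TwoPrime.Conj
import Cfsg.Agent.S4018

set_option autoImplicit false

/-!
# Type II: `C(t)` is not 2-closed
For `a ≥ 3` a direct contradiction; for `a = 2` (so `p = 3`) the configuration is exactly S4018.
-/

namespace Cfsg.Agent.Lib.Helper5.TwoPrime

variable {G : Type*} [Group G] [Finite G] {p a : ℕ}

namespace Ctx

/-- Data attached to an involution `t ∈ Q` of type II. -/
structure T2Data (Q : Sylow 2 G) (p a : ℕ) (t : G) (V : Subgroup G) (P : Sylow p G) : Prop where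
  memV : ∀ y, y ∈ V ↔ (y ∈ Ce t ∧ IsPElt p y)
  V_ne : V ≠ ⊥
  V_le : V ≤ (P : Subgroup G)
  Q_normV : (Q : Subgroup G) ≤ Nz V
  Q_normP : (Q : Subgroup G) ≤ Nz (P : Subgroup G)
  cardN : Nat.card (Nz (P : Subgroup G)) = Nat.card (P : Subgroup G) * 2 ^ a
  notcomm : ∃ u ∈ (Q : Subgroup G), ∃ y ∈ V, u * y ≠ y * u
  uniq : ∀ Y : Subgroup G, Y ≤ (P : Subgroup G) → Y ≠ ⊥ → (Q : Subgroup G) ≤ Nz Y →
    ∀ P' : Sylow p G, Y ≤ (P' : Subgroup G) → P' = P
  pmem : ∀ y ∈ Nz (P : Subgroup G), IsPElt p y → y ∈ (P : Subgroup G)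
  CtN : Ce t ≤ Nz V

theorem t2data (c : Ctx G p a) (Q : Sylow 2 G) {t : G} (htQ : t ∈ (Q : Subgroup G)) (ht1 : t ≠ 1)
    (hT : ¬ Ce t ≤ Nz (Q : Subgroup G)) :
    ∃ (V : Subgroup G) (P : Sylow p G), T2Data Q p a t V P := by
  have := Fact.mk c.hp
  have hQC : (Q : Subgroup G) ≤ Ce t := by
    intro u hu
    rw [Subgroup.mem_centralizer_singleton_iff]
    exact c.comm Q hu htQ
  rcases c.dich Q (c.centralizer_ne_top ht1) hQC with h | ⟨V, hV⟩
  · exact absurd h hT
  have hnotcomm : ∃ u ∈ (Q : Subgroup G), ∃ y ∈ V, u * y ≠ y * u := by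
    by_contra hcon
    push Not at hcon
    exact hT (hV.le_normalizer_of_comm c hQC hcon)
  have hVne : V ≠ ⊥ := by
    intro h
    obtain ⟨u, hu, y, hy, huy⟩ := hnotcomm
    rw [h, Subgroup.mem_bot] at hy
    apply huy; rw [hy, mul_one, one_mul]
  have hQV : (Q : Subgroup G) ≤ Nz V := le_trans hQC hV.norm
  have key : ∀ X : Subgroup G, IsPGroup p X → V ≤ X → (Q : Subgroup G) ≤ Nz X →
      ¬ X ≤ Nz (Q : Subgroup G) := by
    intro X hX hVX hQX hXQ
    obtain ⟨u, hu, y, hy, huy⟩ := hnotcomm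
    exact huy (comm_of_normalize (c.inf_eq_bot Q.isPGroup' hX) hu (hVX hy) (hQX hu)
      (hXQ (hVX hy)))
  have hNVtop : Nz V ≠ ⊤ := c.normalizer_ne_top hVne (c.ne_top_of_isPGroup hV.pgroup)
  rcases c.dich Q hNVtop hQV with h | ⟨P0, hP0⟩
  · exact absurd (le_trans Subgroup.le_normalizer h) (key V hV.pgroup le_rfl hQV)
  have hVP0 : V ≤ P0 := fun y hy =>
    hP0.mem c (Subgroup.le_normalizer hy) (isPElt_of_mem hV.pgroup hy)
  obtain ⟨P, hP⟩ := hP0.pgroup.exists_le_sylow
  have hPab : ∀ x ∈ (P : Subgroup G), ∀ y ∈ (P : Subgroup G), x * y = y * x :=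
    c.pab P P.isPGroup'
  have hPP0 : (P : Subgroup G) ≤ P0 := by
    intro z hz
    apply hP0.mem c _ (isPElt_of_mem P.isPGroup' hz)
    apply Cz_le_Nz
    rw [Subgroup.mem_centralizer_iff]
    intro v hv
    exact hPab v (hP (hVP0 hv)) z hz
  have hEq : P0 = (P : Subgroup G) := le_antisymm hP hPP0
  rw [hEq] at hP0 hVP0
  have hQP : (Q : Subgroup G) ≤ Nz (P : Subgroup G) := le_trans hQV hP0.norm
  have hPne : (P : Subgroup G) ≠ ⊥ := fun h => hVne (by rw [eq_bot_iff, ← h]; exact hVP0)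
  have hNPtop : Nz (P : Subgroup G) ≠ ⊤ :=
    c.normalizer_ne_top hPne (c.ne_top_of_isPGroup P.isPGroup')
  rcases c.dich Q hNPtop hQP with h | ⟨P2, hP2⟩
  · exact absurd (le_trans Subgroup.le_normalizer h) (key _ P.isPGroup' hVP0 hQP)
  have hPP2 : (P : Subgroup G) ≤ P2 := fun y hy =>
    hP2.mem c (Subgroup.le_normalizer hy) (isPElt_of_mem P.isPGroup' hy)
  have hEq2 : P2 = (P : Subgroup G) := P.is_maximal' hP2.pgroup hPP2
  rw [hEq2] at hP2
  refine ⟨V, P, ?_, hVne, hVP0, hQV, hQP, hP2.card.symm, hnotcomm, ?_,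
    fun y hy hyp => hP2.mem c hy hyp, hV.norm⟩
  · intro y
    constructor
    · intro hy; exact ⟨hV.le hy, isPElt_of_mem hV.pgroup hy⟩
    · rintro ⟨hy, hyp⟩; exact hV.mem c hy hyp
  · intro Y hYP hYne hQY P' hYP'
    have hYp : IsPGroup p Y := P.isPGroup'.to_le hYP
    have hNYtop : Nz Y ≠ ⊤ := c.normalizer_ne_top hYne (c.ne_top_of_isPGroup hYp)
    have hPNY : (P : Subgroup G) ≤ Nz Y := by
      intro z hz
      apply Cz_le_Nz
      rw [Subgroup.mem_centralizer_iff]
      intro v hv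
      exact hPab v (hYP hv) z hz
    rcases c.dich Q hNYtop hQY with h | ⟨V', hV'⟩
    · exact absurd (le_trans hPNY h) (key _ P.isPGroup' hVP0 hQP)
    have hPV' : (P : Subgroup G) ≤ V' := fun y hy =>
      hV'.mem c (hPNY hy) (isPElt_of_mem P.isPGroup' hy)
    have hEq3 : V' = (P : Subgroup G) := P.is_maximal' hV'.pgroup hPV'
    have hP'ab := c.pab P' P'.isPGroup'
    have hP'V' : (P' : Subgroup G) ≤ V' := by
      intro z hz
      apply hV'.mem c _ (isPElt_of_mem P'.isPGroup' hz)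
      apply Cz_le_Nz
      rw [Subgroup.mem_centralizer_iff]
      intro v hv
      exact hP'ab v (hYP' hv) z hz
    rw [hEq3] at hP'V'
    exact sylow_eq_of_le hP'V'

theorem t2_distinct (c : Ctx G p a) (Q : Sylow 2 G) {t w : G} {V V' : Subgroup G}
    {P P' : Sylow p G} (htQ : t ∈ (Q : Subgroup G)) (ht1 : t ≠ 1) (hwQ : w ∈ (Q : Subgroup G))
    (hw1 : w ≠ 1) (htw : t ≠ w) (d : T2Data Q p a t V P) (d' : T2Data Q p a w V' P') :
    P' ≠ P := by
  intro hPP
  have := Fact.mk c.hp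
  obtain ⟨x, hxN, hx, hxC⟩ := c.ex Q
  obtain ⟨k, hk⟩ := c.trans_of Q hxN hx hxC htQ ht1 hwQ hw1
  have hgN : x ^ k ∈ Nz (Q : Subgroup G) := Subgroup.pow_mem _ hxN k
  have hgp : IsPElt p (x ^ k) := hx.pow c.hp k
  generalize x ^ k = g at hk hgN hgp
  have hV'gP : V' ≤ ((g • P : Sylow p G) : Subgroup G) := by
    intro y hy
    rw [mem_smul_sylow]
    obtain ⟨hyC, hyp⟩ := (d'.memV y).mp hy
    apply d.V_le
    rw [d.memV]
    refine ⟨?_, ?_⟩
    · rw [← hk] at hyC
      exact mem_Ce_conj.mp hyC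
    · have := hyp.conj g⁻¹
      rwa [inv_inv] at this
  have h1 := d'.uniq V' d'.V_le d'.V_ne d'.Q_normV (g • P) hV'gP
  rw [hPP] at h1
  have hgNP : g ∈ Nz (P : Subgroup G) := smul_eq_iff_mem_Nz.mp h1
  have hgP : g ∈ (P : Subgroup G) := d.pmem g hgNP hgp
  have hinf : (P : Subgroup G) ⊓ (Q : Subgroup G) = ⊥ := by
    rw [inf_comm]; exact c.inf_eq_bot Q.isPGroup' P.isPGroup'
  have hcomm : g * t = t * g := comm_of_normalize hinf hgP htQ hgN (d.Q_normP htQ)
  apply htw
  rw [← hk, hcomm]; group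

theorem t2_inverts (c : Ctx G p a) (Q : Sylow 2 G)
    (hT2 : ∀ t ∈ (Q : Subgroup G), t ≠ 1 → ¬ Ce t ≤ Nz (Q : Subgroup G))
    {t : G} {V : Subgroup G} {P : Sylow p G} (htQ : t ∈ (Q : Subgroup G)) (ht1 : t ≠ 1)
    (d : T2Data Q p a t V P) {u : G} (huQ : u ∈ (Q : Subgroup G)) (hu1 : u ≠ 1) (hut : u ≠ t) :
    ∀ y ∈ (P : Subgroup G), u * y * u⁻¹ = y⁻¹ := by
  have := Fact.mk c.hp
  obtain ⟨V', P', d'⟩ := c.t2data Q huQ hu1 (hT2 u huQ hu1)
  have hne : P' ≠ P := c.t2_distinct Q htQ ht1 huQ hu1 (Ne.symm hut) d d'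
  have hPab := c.pab P P.isPGroup'
  set Y : Subgroup G := (P : Subgroup G) ⊓ Ce u with hY
  have hQY : (Q : Subgroup G) ≤ Nz Y := by
    apply le_normalizer_of_conj_mem
    intro s hs z hz
    obtain ⟨hzP, hzC⟩ := Subgroup.mem_inf.mp hz
    refine Subgroup.mem_inf.mpr ⟨(Subgroup.mem_normalizer_iff.mp (d.Q_normP hs) z).mp hzP, ?_⟩
    have hsu : s * u * s⁻¹ = u := by
      rw [c.comm Q hs huQ]; group
    have : s * z * s⁻¹ ∈ Ce (s * u * s⁻¹) := by
      rw [mem_Ce_conj]
      have e : s⁻¹ * (s * z * s⁻¹) * s = z := by group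
      rw [e]; exact hzC
    rwa [hsu] at this
  have hYbot : Y = ⊥ := by
    by_contra hYne
    apply hne
    apply d.uniq Y inf_le_left hYne hQY P'
    intro z hz
    obtain ⟨hzP, hzC⟩ := Subgroup.mem_inf.mp hz
    apply d'.V_le
    rw [d'.memV]
    exact ⟨hzC, isPElt_of_mem P.isPGroup' hzP⟩
  intro y hy
  have huu : u * u = 1 := c.sq Q huQ
  rw [c.inv_eq Q huQ]
  have hconj : u * y * u ∈ (P : Subgroup G) := by
    have := (Subgroup.mem_normalizer_iff.mp (d.Q_normP huQ) y).mp hy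
    rwa [c.inv_eq Q huQ] at this
  have hw : y * (u * y * u) ∈ Y := by
    refine Subgroup.mem_inf.mpr ⟨(P : Subgroup G).mul_mem hy hconj, ?_⟩
    rw [Subgroup.mem_centralizer_singleton_iff]
    have h1 : y * (u * y * u) = (u * y * u) * y := hPab y hy _ hconj
    calc y * (u * y * u) * u = y * u * y * (u * u) := by group
      _ = (u * u) * y * u * y := by rw [huu, mul_one, one_mul]
      _ = u * ((u * y * u) * y) := by group
      _ = u * (y * (u * y * u)) := by rw [h1]
  rw [hYbot, Subgroup.mem_bot] at hw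
  exact eq_inv_of_mul_eq_one_right hw

theorem typeII_false (c : Ctx G p a) (Q : Sylow 2 G)
    (hT2 : ∀ t ∈ (Q : Subgroup G), t ≠ 1 → ¬ Ce t ≤ Nz (Q : Subgroup G)) : False := by
  classical
  have := Fact.mk c.hp
  have hcardQ := c.card2 Q
  have h4 := c.four_le
  obtain ⟨t, htQ, ht1⟩ : ∃ t ∈ (Q : Subgroup G), t ≠ 1 := by
    by_contra hcon
    push Not at hcon
    have hb : (Q : Subgroup G) = ⊥ := by
      rw [eq_bot_iff]; intro z hz; exact Subgroup.mem_bot.mpr (hcon z hz)
    rw [hb, Subgroup.card_bot] at hcardQ; omega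
  obtain ⟨V, P, d⟩ := c.t2data Q htQ ht1 (hT2 t htQ ht1)
  have hinv : ∀ u ∈ (Q : Subgroup G), u ≠ 1 → u ≠ t → ∀ y ∈ (P : Subgroup G), u * y * u⁻¹ = y⁻¹ :=
    fun u hu hu1 hut => c.t2_inverts Q hT2 htQ ht1 d hu hu1 hut
  have pick : ∀ F : Finset G, F.card < 2 ^ a → ∃ u ∈ (Q : Subgroup G), u ∉ F := by
    intro F hF
    by_contra hcon
    push Not at hcon
    have hsub : ((Q : Subgroup G) : Set G) ⊆ (F : Set G) := fun z hz => hcon z hz
    have h1 := Set.ncard_le_ncard hsub (Finset.finite_toSet F)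
    rw [Set.ncard_coe_finset] at h1
    have h2 : (((Q : Subgroup G) : Set G)).ncard = Nat.card (Q : Subgroup G) :=
      (Nat.card_coe_set_eq _).symm
    rw [h2, hcardQ] at h1
    omega
  obtain ⟨u, huQ, huF⟩ := pick {1, t} (lt_of_le_of_lt Finset.card_le_two (by omega))
  have hu1 : u ≠ 1 := fun h => huF (by rw [h]; simp)
  have hut : u ≠ t := fun h => huF (by rw [h]; simp)
  have hPne : (P : Subgroup G) ≠ ⊥ := fun h => d.V_ne (by rw [eq_bot_iff, ← h]; exact d.V_le)
  have both : ∀ s : G, (∀ y ∈ (P : Subgroup G), s * y * s⁻¹ = y⁻¹) →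
      (∀ y ∈ (P : Subgroup G), s * y * s⁻¹ = y) → False := by
    intro s h1 h2
    apply hPne
    rw [eq_bot_iff]
    intro y hy
    have hyy : y = y⁻¹ := (h2 y hy).symm.trans (h1 y hy)
    have hy2 : y ^ 2 ^ 1 = 1 := by
      rw [pow_one, pow_two]
      calc y * y = y * y⁻¹ := by rw [← hyy]
        _ = 1 := mul_inv_cancel y
    have hp2 : IsPElt 2 y := isPElt_of_pow_eq_one Nat.prime_two hy2
    exact Subgroup.mem_bot.mpr (eq_one_of_isPElt_of_isPElt c.hp Nat.prime_two c.p_ne_two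
      (isPElt_of_mem P.isPGroup' hy) hp2)
  by_cases ha3 : 3 ≤ a
  · have h8 : 8 ≤ 2 ^ a := by
      calc 8 = 2 ^ 3 := rfl
        _ ≤ 2 ^ a := Nat.pow_le_pow_right (by norm_num) ha3
    obtain ⟨u', hu'Q, hu'F⟩ := pick {1, t, u, t * u} (lt_of_le_of_lt Finset.card_le_four (by omega))
    have hu'1 : u' ≠ 1 := fun h => hu'F (by rw [h]; simp)
    have hu't : u' ≠ t := fun h => hu'F (by rw [h]; simp)
    have hu'u : u' ≠ u := fun h => hu'F (by rw [h]; simp)
    have hu'tu : u' ≠ t * u := fun h => hu'F (by rw [h]; simp)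
    have huu'Q : u * u' ∈ (Q : Subgroup G) := Subgroup.mul_mem _ huQ hu'Q
    have huu'1 : u * u' ≠ 1 := by
      intro h
      apply hu'u
      have : u' = u⁻¹ := eq_inv_of_mul_eq_one_right h
      rw [this, c.inv_eq Q huQ]
    have huu't : u * u' ≠ t := by
      intro h
      apply hu'tu
      have : u' = u⁻¹ * t := by rw [← h]; group
      rw [this, c.inv_eq Q huQ, c.comm Q huQ htQ]
    apply both (u * u') (hinv _ huu'Q huu'1 huu't)
    intro y hy
    have h1 := hinv u huQ hu1 hut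
    have h2 := hinv u' hu'Q hu'1 hu't
    have hy' : y⁻¹ ∈ (P : Subgroup G) := Subgroup.inv_mem _ hy
    calc u * u' * y * (u * u')⁻¹ = u * (u' * y * u'⁻¹) * u⁻¹ := by group
      _ = u * y⁻¹ * u⁻¹ := by rw [h2 y hy]
      _ = y⁻¹⁻¹ := h1 _ hy'
      _ = y := inv_inv y
  · have ha2 : a = 2 := by have := c.ha; omega
    subst ha2
    have hp3 : p = 3 := by have := c.hpa; norm_num at this; omega
    subst hp3
    have htu : t * u ∈ (Q : Subgroup G) := Subgroup.mul_mem _ htQ huQ
    have htu1 : t * u ≠ 1 := by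
      intro h; apply hut
      have : u = t⁻¹ := eq_inv_of_mul_eq_one_right h
      rw [this, c.inv_eq Q htQ]
    have htut : t * u ≠ t := by
      intro h; apply hu1
      exact mul_left_cancel (a := t) (by rw [h, mul_one])
    have hiu := hinv u huQ hu1 hut
    have hitu := hinv (t * u) htu htu1 htut
    have htP : ∀ y ∈ (P : Subgroup G), t * y * t⁻¹ = y := by
      intro y hy
      have hy' : y⁻¹ ∈ (P : Subgroup G) := Subgroup.inv_mem _ hy
      have e : t * y * t⁻¹ = (t * u) * (u * y * u⁻¹) * (t * u)⁻¹ := by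
        have e2 : (t * u) * (u * y * u⁻¹) * (t * u)⁻¹ = t * (u * u) * y * (u * u)⁻¹ * t⁻¹ := by
          group
        rw [e2, c.sq Q huQ]; group
      calc t * y * t⁻¹ = (t * u) * (u * y * u⁻¹) * (t * u)⁻¹ := e
        _ = (t * u) * y⁻¹ * (t * u)⁻¹ := by rw [hiu y hy]
        _ = y⁻¹⁻¹ := hitu _ hy'
        _ = y := inv_inv y
    have hPab : IsMulCommutative P :=
      ⟨⟨fun x y => Subtype.ext (c.pab P P.isPGroup' x x.2 y y.2)⟩⟩
    have hN : Nat.card (Subgroup.normalizer ((P : Subgroup G) : Set G)) = 4 * Nat.card P := by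
      have h := d.cardN
      rw [h]; norm_num [mul_comm]
    set C : Subgroup G := Subgroup.centralizer ((P : Subgroup G) : Set G) with hC
    have hPC : (P : Subgroup G) ≤ C := by
      intro z hz
      rw [hC, Subgroup.mem_centralizer_iff]
      intro v hv
      exact c.pab P P.isPGroup' v hv z hz
    have hCN : C ≤ Nz (P : Subgroup G) := Cz_le_Nz _
    have htC : t ∈ C := by
      rw [hC, Subgroup.mem_centralizer_iff]
      intro v hv
      have h := htP v hv
      calc v * t = (t * v * t⁻¹) * t := by rw [h]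
        _ = t * v := by group
    have huC : u ∉ C := by
      intro h
      apply both u hiu
      intro y hy
      have h' := Subgroup.mem_centralizer_iff.mp h y hy
      calc u * y * u⁻¹ = (y * u) * u⁻¹ := by rw [h']
        _ = y := by group
    have htP' : t ∉ (P : Subgroup G) := by
      intro h
      exact ht1 (eq_one_of_isPElt_of_isPElt Nat.prime_two c.hp c.two_ne_p
        (isPElt_of_mem Q.isPGroup' htQ) (isPElt_of_mem P.isPGroup' h))
    have hCcard : Nat.card C = 2 * Nat.card P := by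
      obtain ⟨k, hk⟩ : Nat.card (P : Subgroup G) ∣ Nat.card C := Subgroup.card_dvd_of_le hPC
      have hd : Nat.card C ∣ Nat.card (Nz (P : Subgroup G)) := Subgroup.card_dvd_of_le hCN
      rw [d.cardN, hk] at hd
      have hPpos : 0 < Nat.card (P : Subgroup G) := Nat.card_pos
      have hk4 : k ∣ 2 ^ 2 := Nat.dvd_of_mul_dvd_mul_left hPpos hd
      have hk4' : k ∣ 4 := by simpa using hk4
      have hkle : k ≤ 4 := Nat.le_of_dvd (by norm_num) hk4'
      interval_cases k
      · norm_num at hk4'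
      · exfalso; apply htP'
        have : (P : Subgroup G) = C := Subgroup.eq_of_le_of_card_ge hPC (by rw [hk, mul_one])
        rw [this]; exact htC
      · rw [hk]; ring
      · norm_num at hk4'
      · exfalso; apply huC
        have : C = Nz (P : Subgroup G) :=
          Subgroup.eq_of_le_of_card_ge hCN (by rw [d.cardN, hk]; norm_num)
        rw [this]; exact d.Q_normP huQ
    have hVP : V = (P : Subgroup G) := by
      apply le_antisymm d.V_le
      intro y hy
      rw [d.memV]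
      refine ⟨?_, isPElt_of_mem P.isPGroup' hy⟩
      rw [Subgroup.mem_centralizer_singleton_iff]
      have h := htP y hy
      calc y * t = (t * y * t⁻¹) * t := by rw [h]
        _ = t * y := by group
    have hCtNP : Ce t ≤ Nz (P : Subgroup G) := by rw [← hVP]; exact d.CtN
    have hNPNC : Nz (P : Subgroup G) ≤ Nz C := by
      apply le_normalizer_of_conj_mem
      intro n hn z hz
      rw [hC, Subgroup.mem_centralizer_iff] at hz ⊢
      intro v hv
      have hv' : n⁻¹ * v * n⁻¹⁻¹ ∈ (P : Subgroup G) :=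
        (Subgroup.mem_normalizer_iff.mp (Subgroup.inv_mem _ hn) v).mp hv
      have h := hz _ hv'
      calc v * (n * z * n⁻¹) = n * ((n⁻¹ * v * n⁻¹⁻¹) * z) * n⁻¹ := by group
        _ = n * (z * (n⁻¹ * v * n⁻¹⁻¹)) * n⁻¹ := by rw [h]
        _ = n * z * n⁻¹ * v := by group
    -- conjugates of `t` inside `C`
    have claimA : ∀ h z : G, h * t * h⁻¹ = z → z ∈ C → h ∈ Nz (P : Subgroup G) := by
      intro h z hz hzC
      have hle : (P : Subgroup G) ≤ ((h • P : Sylow 3 G) : Subgroup G) := by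
        intro y hy
        rw [mem_smul_sylow]
        rw [← hVP, d.memV]
        refine ⟨?_, ?_⟩
        · apply mem_Ce_conj.mp
          rw [hz, Subgroup.mem_centralizer_singleton_iff]
          exact Subgroup.mem_centralizer_iff.mp hzC y hy
        · have := (isPElt_of_mem P.isPGroup' hy).conj h⁻¹
          rwa [inv_inv] at this
      have : P = h • P := sylow_eq_of_le hle
      exact smul_eq_iff_mem_Nz.mp this.symm
    obtain ⟨b, hb⟩ := IsPGroup.iff_card.mp P.isPGroup'
    have hTI : Cfsg.IsTISubset ((C : Subgroup G) : Set G) := by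
      intro g hg x hx hgx
      by_contra hx1
      apply hg
      suffices hgNP : g ∈ Nz (P : Subgroup G) from hNPNC hgNP
      have hxC : x ∈ C := hx
      have hgxC : g * x * g⁻¹ ∈ C := hgx
      have hxpow : x ^ (2 * 3 ^ b) = 1 := by
        have h1 := orderOf_dvd_natCard (⟨x, hxC⟩ : C)
        rw [Subgroup.orderOf_mk, hCcard] at h1
        have h2 : Nat.card P = 3 ^ b := hb
        rw [h2] at h1
        exact orderOf_dvd_iff_pow_eq_one.mp h1
      by_cases hx3 : x ^ 2 = 1
      · -- `x` is an involution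
        have hx2 : orderOf x = 2 := by
          have := Fact.mk Nat.prime_two
          exact orderOf_eq_prime hx3 hx1
        obtain ⟨h, hh⟩ := c.conj_invol Q htQ ht1 hx2
        have h1 := claimA h x hh hxC
        have h2 := claimA (g * h) (g * x * g⁻¹) (by rw [← hh]; group) hgxC
        have e : g = (g * h) * h⁻¹ := by group
        rw [e]; exact Subgroup.mul_mem _ h2 (Subgroup.inv_mem _ h1)
      · -- `x ^ 2` is a nontrivial 3-element
        have hx3p : IsPElt 3 (x ^ 2) := by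
          apply isPElt_of_pow_eq_one c.hp (k := b)
          rw [← pow_mul]; exact hxpow
        have hx3P : x ^ 2 ∈ (P : Subgroup G) := d.pmem _ (hCN (Subgroup.pow_mem _ hxC 2)) hx3p
        have hgx3P : g * x ^ 2 * g⁻¹ ∈ (P : Subgroup G) := by
          apply d.pmem _ _ (hx3p.conj g)
          have : g * x ^ 2 * g⁻¹ = (g * x * g⁻¹) ^ 2 := by rw [conj_pow]
          rw [this]; exact hCN (Subgroup.pow_mem _ hgxC 2)
        have hYle : Subgroup.zpowers (x ^ 2) ≤ (P : Subgroup G) := by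
          rw [Subgroup.zpowers_le]; exact hx3P
        have hYne : Subgroup.zpowers (x ^ 2) ≠ ⊥ := by
          rw [Ne, Subgroup.zpowers_eq_bot]; exact hx3
        have hQY : (Q : Subgroup G) ≤ Nz (Subgroup.zpowers (x ^ 2)) := by
          apply le_normalizer_of_conj_mem
          intro s hs z hz
          obtain ⟨n, rfl⟩ := Subgroup.mem_zpowers_iff.mp hz
          rw [← conj_zpow]
          apply Subgroup.zpow_mem
          by_cases hs1 : s = 1
          · rw [hs1]; simp
          · by_cases hst : s = t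
            · rw [hst, htP _ hx3P]; exact Subgroup.mem_zpowers _
            · rw [hinv s hs hs1 hst _ hx3P]
              exact Subgroup.inv_mem _ (Subgroup.mem_zpowers _)
        have hYP' : Subgroup.zpowers (x ^ 2) ≤ ((g⁻¹ • P : Sylow 3 G) : Subgroup G) := by
          rw [Subgroup.zpowers_le, mem_smul_sylow, inv_inv]
          exact hgx3P
        have h1 := d.uniq _ hYle hYne hQY (g⁻¹ • P) hYP'
        have h2 : g⁻¹ ∈ Nz (P : Subgroup G) := smul_eq_iff_mem_Nz.mp h1
        have := Subgroup.inv_mem _ h2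
        rwa [inv_inv] at this
    have heven : ∀ H : Subgroup G, H ≠ ⊤ → 2 ∣ Nat.card H → Nat.card H ∣ 4 * Nat.card P := by
      intro H hH h2
      obtain ⟨i, j, hij⟩ := c.prop H hH h2
      have hHG : Nat.card H ∣ Nat.card G := Subgroup.card_subgroup_dvd_card H
      rw [hij] at hHG ⊢
      have h2i : 2 ^ i ∣ 4 := by
        have h3 : 2 ^ i ∣ Nat.card G := dvd_trans (Dvd.intro _ rfl) hHG
        have hi : i ≤ 2 := by
          rw [← c.fact_two]
          exact (Nat.Prime.pow_dvd_iff_le_factorization Nat.prime_two Nat.card_pos.ne').mp h3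
        calc 2 ^ i ∣ 2 ^ 2 := pow_dvd_pow 2 hi
          _ = 4 := by norm_num
      have h3j : 3 ^ j ∣ Nat.card P := by
        have h3 : 3 ^ j ∣ Nat.card G := dvd_trans (Dvd.intro_left _ rfl) hHG
        rw [P.card_eq_multiplicity]
        exact pow_dvd_pow 3
          ((Nat.Prime.pow_dvd_iff_le_factorization c.hp Nat.card_pos.ne').mp h3)
      exact Nat.mul_dvd_mul h2i h3j
    exact Cfsg.Agent.S4018.result P hPab hN hCcard hTI heven c.simple

end Ctx

end Cfsg.Agent.Lib.Helper5.TwoPrime
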