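import Cfsg.Agent.Lib.Helper5.TwoPrime.Reduce
import Cfsg.Agent.Lib.Helper5.TwoPrime.TypeIB
import Cfsg.Agent.Lib.Helper5.TwoPrime.TypeII

set_option autoImplicit false

/-!
# Main theorem for S4017
-/

namespace Cfsg.Agent.Lib.Helper5.TwoPrime

/-- no context exists. -/
theorem Ctx.false {G : Type*} [Group G] [Finite G] {p a : ℕ} (c : Ctx G p a) : False := by
  by_cases hT1 : Ctx.T1 G
  · exact c.typeI_false hT1
  · unfold Ctx.T1 at hT1
    push Not at hT1
    obtain ⟨S, t, htS, ht1, hnot⟩ := hT1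
    apply c.typeII_false S
    intro t' ht'S ht'1 hle
    obtain ⟨x, hxN, hx, hxC⟩ := c.ex S
    obtain ⟨k, hk⟩ := c.trans_of S hxN hx hxC ht'S ht'1 htS ht1
    apply hnot
    intro z hz
    rw [← hk, mem_Ce_conj] at hz
    have h1 := hle hz
    have hkN : x ^ k ∈ Nz (S : Subgroup G) := Subgroup.pow_mem _ hxN k
    have e : z = x ^ k * ((x ^ k)⁻¹ * z * x ^ k) * (x ^ k)⁻¹ := by group
    rw [e]
    exact Subgroup.mul_mem _ (Subgroup.mul_mem _ hkN h1) (Subgroup.inv_mem _ hkN)

theorem main_aux.{u} : ∀ (n : ℕ) (G : Type u) [Group G] [Finite G] (p q : ℕ),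
    Nat.card G = n → Hyp G p q → PQ p q (Nat.card G) := by
  intro n
  induction n using Nat.strong_induction_on with
  | _ n ih =>
  intro G _ _ p q hn h
  by_contra hnot
  unfold PQ at hnot
  push Not at hnot
  obtain ⟨r, hr, hrG, hrp, hrq⟩ := hnot
  have hqF := Fact.mk h.hq
  have star : ∀ H : Subgroup G, H ≠ ⊤ → q ∣ Nat.card H → PQ p q (Nat.card H) := by
    intro H hH hqH
    by_cases hHq : IsPGroup q H
    · obtain ⟨k, hk⟩ := IsPGroup.iff_card.mp hHq
      rw [hk]; exact PQ.pow_right h.hq k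
    · have hpH := h.hmix H hH hHq hqH
      have hlt : Nat.card H < n := by
        rw [← hn]
        by_contra hge
        apply hH
        exact Subgroup.eq_of_le_of_card_ge le_top (by rw [Subgroup.card_top]; exact not_lt.mp hge)
      exact ih _ hlt H p q rfl (h.sub H hH hpH hqH)
  have m : MinCE G p q r := ⟨h, star, hr, hrG, hrp, hrq⟩
  obtain ⟨a, c⟩ := m.exists_ctx
  exact c.false

end Cfsg.Agent.Lib.Helper5.TwoPrime
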