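import Cfsg.Agent.Lib.Helper5.TwoPrime.Conj
import Cfsg.Agent.S0071

set_option autoImplicit false

/-!
# Reduction of a minimal counterexample of S4017 to the bad-case context `Ctx`
-/

namespace Cfsg.Agent.Lib.Helper5.TwoPrime

open scoped commutatorElement

/-- `n` is a `{p,q}`-number. -/
def PQ (p q n : ℕ) : Prop := ∀ r : ℕ, r.Prime → r ∣ n → r = p ∨ r = q

theorem PQ.of_dvd {p q m n : ℕ} (h : PQ p q n) (hd : m ∣ n) : PQ p q m :=
  fun r hr hrm => h r hr (dvd_trans hrm hd)

theorem PQ.mul {p q m n : ℕ} (h1 : PQ p q m) (h2 : PQ p q n) : PQ p q (m * n) :=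
  fun r hr hd => (hr.dvd_mul.mp hd).elim (h1 r hr) (h2 r hr)

theorem PQ.pow_right {p q : ℕ} (hq : q.Prime) (k : ℕ) : PQ p q (q ^ k) :=
  fun r hr hd => Or.inr ((Nat.prime_dvd_prime_iff_eq hr hq).mp (hr.dvd_of_dvd_pow hd))

/-- a `{p,q}`-number prime to `q` is a power of `p`. -/
theorem PQ.eq_pow {p q n : ℕ} (h : PQ p q n) (hn : n ≠ 0) (hq : ¬ q ∣ n) :
    ∃ k, n = p ^ k := by
  refine ⟨_, Nat.eq_prime_pow_of_unique_prime_dvd hn ?_⟩
  intro d hd hdn
  rcases h d hd hdn with h1 | h1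
  · exact h1
  · exact absurd (h1 ▸ hdn) hq

/-- a `{p,2}`-number is `2^i * p^j`. -/
theorem PQ.two_form {p n : ℕ} (h : PQ p 2 n) (hn : n ≠ 0) : ∃ i j, n = 2 ^ i * p ^ j := by
  obtain ⟨i, m, hm, hnm⟩ := Nat.exists_eq_two_pow_mul_odd hn
  have hm0 : m ≠ 0 := by
    rintro rfl
    simp at hm
  have hmd : m ∣ n := ⟨2 ^ i, by rw [hnm]; ring⟩
  obtain ⟨j, hj⟩ := (h.of_dvd hmd).eq_pow hm0
    (by intro h2; exact (Nat.not_even_iff_odd.mpr hm) (even_iff_two_dvd.mpr h2))
  exact ⟨i, j, by rw [hnm, hj]⟩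

/-- the hypotheses of S4017. -/
structure Hyp (G : Type*) [Group G] (p q : ℕ) : Prop where
  hp : p.Prime
  hq : q.Prime
  hpq : p ≠ q
  hp2 : p ≠ 2
  hpG : p ∣ Nat.card G
  hqG : q ∣ Nat.card G
  hmix : ∀ H : Subgroup G, H ≠ ⊤ → ¬ IsPGroup q H → q ∣ Nat.card H → p ∣ Nat.card H
  hlarge : q ^ (Nat.card G).factorization q - 1 < p ∨
    (p = q ^ (Nat.card G).factorization q - 1 ∧ ∀ P : Sylow p G, IsMulCommutative P)

variable {G : Type*} [Group G] [Finite G] {p q : ℕ}

/-- the hypotheses pass to proper subgroups of order divisible by `p q`. -/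
theorem Hyp.sub (h : Hyp G p q) (H : Subgroup G) (hH : H ≠ ⊤) (hpH : p ∣ Nat.card H)
    (hqH : q ∣ Nat.card H) : Hyp H p q := by
  have := Fact.mk h.hp
  have := Fact.mk h.hq
  refine ⟨h.hp, h.hq, h.hpq, h.hp2, hpH, hqH, ?_, ?_⟩
  · intro K hK hKq hqK
    have hcard : Nat.card (K.map H.subtype) = Nat.card K :=
      Subgroup.card_map_of_injective H.subtype_injective
    have hne : K.map H.subtype ≠ ⊤ := by
      intro htop
      apply hH
      rw [eq_top_iff, ← htop]
      exact Subgroup.map_subtype_le K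
    have hnq : ¬ IsPGroup q (K.map H.subtype) := by
      intro hq'
      apply hKq
      obtain ⟨n, hn⟩ := IsPGroup.iff_card.mp hq'
      rw [hcard] at hn
      exact IsPGroup.of_card hn
    have h1 := h.hmix _ hne hnq (by rw [hcard]; exact hqK)
    rwa [hcard] at h1
  · have hdvd : Nat.card H ∣ Nat.card G := Subgroup.card_subgroup_dvd_card H
    have hba : (Nat.card H).factorization q ≤ (Nat.card G).factorization q :=
      (Nat.factorization_le_iff_dvd Nat.card_pos.ne' Nat.card_pos.ne').mpr hdvd q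
    rcases h.hlarge with hl | ⟨hl, hab⟩
    · left
      have h1 : q ^ (Nat.card H).factorization q ≤ q ^ (Nat.card G).factorization q :=
        Nat.pow_le_pow_right h.hq.pos hba
      omega
    · rcases lt_or_eq_of_le hba with hlt | heq
      · left
        have h1 : q ^ (Nat.card H).factorization q < q ^ (Nat.card G).factorization q :=
          Nat.pow_lt_pow_right h.hq.one_lt hlt
        have h2 : 1 ≤ q ^ (Nat.card H).factorization q := Nat.one_le_pow _ _ h.hq.pos
        omega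
      · right
        refine ⟨by rw [heq]; exact hl, ?_⟩
        intro P
        obtain ⟨P', hP'⟩ := (P.isPGroup'.map H.subtype).exists_le_sylow
        have hc := hab P'
        refine ⟨⟨fun x y => ?_⟩⟩
        apply Subtype.ext
        apply Subtype.ext
        have hx : ((x : H) : G) ∈ (P' : Subgroup G) := hP' ⟨x, x.2, rfl⟩
        have hy : ((y : H) : G) ∈ (P' : Subgroup G) := hP' ⟨y, y.2, rfl⟩
        have h3 := hc.is_comm.comm ⟨_, hx⟩ ⟨_, hy⟩
        have h4 : ((x : H) : G) * ((y : H) : G) = ((y : H) : G) * ((x : H) : G) :=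
          congrArg Subtype.val h3
        simpa using h4

omit [Finite G] in
theorem card_sup_dvd_of_normal (U R : Subgroup G) [U.Normal] :
    Nat.card (U ⊔ R : Subgroup G) ∣ Nat.card U * Nat.card R := by
  have h1 : (⊥ : Subgroup G).relIndex U * U.relIndex (U ⊔ R) = (⊥ : Subgroup G).relIndex (U ⊔ R) :=
    Subgroup.relIndex_mul_relIndex _ _ _ bot_le le_sup_left
  rw [Subgroup.relIndex_bot_left, Subgroup.relIndex_bot_left, Subgroup.relIndex_sup_left] at h1
  rw [← h1]
  exact Nat.mul_dvd_mul_left _ (Subgroup.relIndex_dvd_card U R)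

/-- a minimal counterexample with a third prime `r`. -/
structure MinCE (G : Type*) [Group G] [Finite G] (p q r : ℕ) : Prop where
  h : Hyp G p q
  star : ∀ H : Subgroup G, H ≠ ⊤ → q ∣ Nat.card H → PQ p q (Nat.card H)
  hr : r.Prime
  hrG : r ∣ Nat.card G
  hrp : r ≠ p
  hrq : r ≠ q

namespace MinCE

variable {r : ℕ}

theorem eq_top_of_third (m : MinCE G p q r) {K : Subgroup G} (hq : q ∣ Nat.card K) {r' : ℕ}
    (hr' : r'.Prime) (hd : r' ∣ Nat.card K) (h1 : r' ≠ p) (h2 : r' ≠ q) : K = ⊤ := by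
  by_contra hK
  rcases m.star K hK hq r' hr' hd with h | h
  · exact h1 h
  · exact h2 h

theorem false_of_qr (m : MinCE G p q r) {K : Subgroup G} (hq : q ∣ Nat.card K) {r' : ℕ}
    (hr' : r'.Prime) (hd : r' ∣ Nat.card K) (h1 : r' ≠ p) (h2 : r' ≠ q)
    (hp : ¬ p ∣ Nat.card K) : False := by
  have h := m.eq_top_of_third hq hr' hd h1 h2
  apply hp
  rw [h, Subgroup.card_top]
  exact m.h.hpG

theorem dvd_card_of_ne_bot {l : ℕ} [Fact l.Prime] {U : Subgroup G} (hU : IsPGroup l U)
    (hU1 : U ≠ ⊥) : l ∣ Nat.card U := by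
  obtain ⟨i, hi⟩ := IsPGroup.iff_card.mp hU
  have hi0 : i ≠ 0 := by
    rintro rfl
    rw [pow_zero] at hi
    exact hU1 (Subgroup.card_eq_one.mp hi)
  rw [hi]; exact dvd_pow_self l hi0

theorem not_dvd_pow_mul_pow {p l1 l2 : ℕ} (hp : p.Prime) (h1 : l1.Prime) (h2 : l2.Prime)
    (hp1 : p ≠ l1) (hp2 : p ≠ l2) (i j : ℕ) : ¬ p ∣ l1 ^ i * l2 ^ j := by
  intro h
  rcases (Nat.Prime.dvd_mul hp).mp h with h3 | h3
  · exact hp1 ((Nat.prime_dvd_prime_iff_eq hp h1).mp (hp.dvd_of_dvd_pow h3))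
  · exact hp2 ((Nat.prime_dvd_prime_iff_eq hp h2).mp (hp.dvd_of_dvd_pow h3))

/-- normalizers of nontrivial `q`-subgroups are proper. -/
theorem nz_ne_top (m : MinCE G p q r) {U : Subgroup G} (hU : IsPGroup q U) (hU1 : U ≠ ⊥) :
    Nz U ≠ ⊤ := by
  intro htop
  have := Fact.mk m.h.hq
  have := Fact.mk m.hr
  have hn : U.Normal := Subgroup.normalizer_eq_top_iff.mp htop
  obtain ⟨R⟩ : Nonempty (Sylow r G) := inferInstance
  have hRne : (R : Subgroup G) ≠ ⊥ := R.ne_bot_of_dvd_card m.hrG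
  have hqU : q ∣ Nat.card U := dvd_card_of_ne_bot hU hU1
  have hrR : r ∣ Nat.card (R : Subgroup G) := dvd_card_of_ne_bot R.isPGroup' hRne
  obtain ⟨i, hi⟩ := IsPGroup.iff_card.mp hU
  obtain ⟨k, hk⟩ := IsPGroup.iff_card.mp R.isPGroup'
  have hd := card_sup_dvd_of_normal U (R : Subgroup G)
  rw [hi, hk] at hd
  apply m.false_of_qr (K := U ⊔ (R : Subgroup G))
    (dvd_trans hqU (Subgroup.card_dvd_of_le le_sup_left)) m.hr
    (dvd_trans hrR (Subgroup.card_dvd_of_le le_sup_right)) m.hrp m.hrq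
  intro hp
  exact not_dvd_pow_mul_pow m.h.hp m.h.hq m.hr m.h.hpq m.hrp.symm i k (dvd_trans hp hd)

/-- no normal `q'`-subgroup involves a third prime. -/
theorem no_normal_qfree (m : MinCE G p q r) (N : Subgroup G) [N.Normal]
    (hqN : ¬ q ∣ Nat.card N) {r' : ℕ} (hr' : r'.Prime) (hr'N : r' ∣ Nat.card N) (h1 : r' ≠ p)
    (h2 : r' ≠ q) : False := by
  have := Fact.mk m.h.hq
  have := Fact.mk hr'
  obtain ⟨T⟩ : Nonempty (Sylow r' N) := inferInstance
  have hfr : Nz ((T : Subgroup N).map N.subtype) ⊔ N = ⊤ := Sylow.normalizer_sup_eq_top T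
  have hTne : (T : Subgroup N) ≠ ⊥ := T.ne_bot_of_dvd_card hr'N
  have hcardT' : Nat.card ((T : Subgroup N).map N.subtype) = Nat.card (T : Subgroup N) :=
    Subgroup.card_map_of_injective N.subtype_injective
  have hr'T : r' ∣ Nat.card (T : Subgroup N) := dvd_card_of_ne_bot T.isPGroup' hTne
  obtain ⟨k, hk⟩ := IsPGroup.iff_card.mp T.isPGroup'
  generalize hT'def : (T : Subgroup N).map N.subtype = T' at *
  have hr'T' : r' ∣ Nat.card T' := by rw [hcardT']; exact hr'T
  have hdvd : Nat.card G ∣ Nat.card N * Nat.card (Nz T') := by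
    have h3 := card_sup_dvd_of_normal N (Nz T')
    rw [sup_comm, hfr, Subgroup.card_top] at h3
    exact h3
  have hqNz : q ∣ Nat.card (Nz T') := by
    have h4 := dvd_trans m.h.hqG hdvd
    rcases (Nat.Prime.dvd_mul m.h.hq).mp h4 with h | h
    · exact absurd h hqN
    · exact h
  have hr'Nz : r' ∣ Nat.card (Nz T') :=
    dvd_trans hr'T' (Subgroup.card_dvd_of_le Subgroup.le_normalizer)
  have htop : Nz T' = ⊤ := m.eq_top_of_third hqNz hr' hr'Nz h1 h2
  have hn : T'.Normal := Subgroup.normalizer_eq_top_iff.mp htop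
  obtain ⟨Q⟩ : Nonempty (Sylow q G) := inferInstance
  have hQne : (Q : Subgroup G) ≠ ⊥ := Q.ne_bot_of_dvd_card m.h.hqG
  have hqQ : q ∣ Nat.card (Q : Subgroup G) := dvd_card_of_ne_bot Q.isPGroup' hQne
  obtain ⟨A, hA⟩ := IsPGroup.iff_card.mp Q.isPGroup'
  have hd := card_sup_dvd_of_normal T' (Q : Subgroup G)
  rw [hcardT', hk, hA] at hd
  apply m.false_of_qr (K := T' ⊔ (Q : Subgroup G))
    (dvd_trans hqQ (Subgroup.card_dvd_of_le le_sup_right)) hr'
    (dvd_trans hr'T' (Subgroup.card_dvd_of_le le_sup_left)) h1 h2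
  intro hp
  exact not_dvd_pow_mul_pow m.h.hp hr' m.h.hq h1.symm m.h.hpq k A (dvd_trans hp hd)

/-- the bad case. -/
theorem bad (m : MinCE G p q r) :
    ∃ (Q : Sylow q G) (g : G), g ∈ Nz (Q : Subgroup G) ∧ IsPElt p g ∧ g ∉ Cz (Q : Subgroup G) ∧
      p + 1 = q ^ (Nat.card G).factorization q ∧ (∀ P : Sylow p G, IsMulCommutative P) := by
  have hqF := Fact.mk m.h.hq
  have hpF := Fact.mk m.h.hp
  obtain ⟨Q⟩ : Nonempty (Sylow q G) := inferInstance
  have hQcard := Q.card_eq_multiplicity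
  have hfrob := Cfsg.Agent.S0071.result Q
  have hnc : ¬ ∃ N : Subgroup G, N.Normal ∧ N.IsComplement' (Q : Subgroup G) := by
    rintro ⟨N, hN, hc⟩
    have hmul := hc.card_mul_card
    rw [hQcard] at hmul
    have hnd := Nat.pow_succ_factorization_not_dvd (n := Nat.card G) Nat.card_pos.ne' m.h.hq
    generalize (Nat.card G).factorization q = A at hmul hnd
    have hqN : ¬ q ∣ Nat.card N := by
      intro hq
      apply hnd
      rw [← hmul, pow_succ, mul_comm]
      exact Nat.mul_dvd_mul hq (dvd_refl _)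
    have hrN : r ∣ Nat.card N := by
      have h5 := m.hrG
      rw [← hmul] at h5
      rcases (Nat.Prime.dvd_mul m.hr).mp h5 with h | h
      · exact h
      · exact absurd ((Nat.prime_dvd_prime_iff_eq m.hr m.h.hq).mp (m.hr.dvd_of_dvd_pow h)) m.hrq
    exact m.no_normal_qfree N hqN m.hr hrN m.hrp m.hrq
  rw [hfrob] at hnc
  push Not at hnc
  obtain ⟨U, hUQ, g, hgN, hgcop, hgC⟩ := hnc
  have hU1 : U ≠ ⊥ := by
    rintro rfl
    apply hgC
    rw [Subgroup.mem_centralizer_iff]
    intro h hh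
    have : h = 1 := Subgroup.mem_bot.mp hh
    rw [this, one_mul, mul_one]
  have hUq : IsPGroup q U := Q.isPGroup'.to_le hUQ
  have hNtop := m.nz_ne_top hUq hU1
  have hqU : q ∣ Nat.card U := dvd_card_of_ne_bot hUq hU1
  have hPQ := m.star _ hNtop (dvd_trans hqU (Subgroup.card_dvd_of_le Subgroup.le_normalizer))
  have hgord : orderOf g ∣ Nat.card (Nz U) := by
    have := orderOf_dvd_natCard (⟨g, hgN⟩ : Nz U)
    rwa [Subgroup.orderOf_mk] at this
  have hgq : ¬ q ∣ orderOf g := (Nat.Prime.coprime_iff_not_dvd m.h.hq).mp hgcop.symm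
  have hgp : IsPElt p g := (hPQ.of_dvd hgord).eq_pow (orderOf_pos g).ne' hgq
  have hmod := card_modEq_card_fix U g hgN hgp
  obtain ⟨i, hi⟩ := IsPGroup.iff_card.mp hUq
  have hDq : IsPGroup q (U ⊓ Ce g : Subgroup G) := hUq.to_le inf_le_left
  obtain ⟨j, hj⟩ := IsPGroup.iff_card.mp hDq
  have hji : j ≤ i := by
    have h5 : Nat.card (U ⊓ Ce g : Subgroup G) ≤ Nat.card U := Subgroup.card_le_of_le inf_le_left
    rw [hi, hj] at h5
    exact (Nat.pow_le_pow_iff_right m.h.hq.one_lt).mp h5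
  have hjne : j ≠ i := by
    intro hji'
    apply hgC
    have hEq : (U ⊓ Ce g : Subgroup G) = U :=
      Subgroup.eq_of_le_of_card_ge inf_le_left (by rw [hi, hj, hji'])
    rw [Subgroup.mem_centralizer_iff]
    intro u hu
    have hu' : u ∈ (U ⊓ Ce g : Subgroup G) := by rw [hEq]; exact hu
    exact Subgroup.mem_centralizer_singleton_iff.mp (Subgroup.mem_inf.mp hu').2
  have hjlt : j < i := lt_of_le_of_ne hji hjne
  rw [hi, hj] at hmod
  have hiA : i ≤ (Nat.card G).factorization q := by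
    have h5 : q ^ i ∣ Nat.card G := by rw [← hi]; exact Subgroup.card_subgroup_dvd_card U
    exact (Nat.Prime.pow_dvd_iff_le_factorization m.h.hq Nat.card_pos.ne').mp h5
  have hdvd : p ∣ q ^ i - q ^ j :=
    (Nat.modEq_iff_dvd' (Nat.pow_le_pow_right m.h.hq.pos hji)).mp hmod.symm
  have hfac : q ^ i - q ^ j = q ^ j * (q ^ (i - j) - 1) := by
    have h5 : q ^ i = q ^ j * q ^ (i - j) := by rw [← pow_add]; congr 1; omega
    rw [h5, Nat.mul_sub, mul_one]
  rw [hfac] at hdvd
  have hdvd2 : p ∣ q ^ (i - j) - 1 := by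
    rcases (Nat.Prime.dvd_mul m.h.hp).mp hdvd with h | h
    · exact absurd ((Nat.prime_dvd_prime_iff_eq m.h.hp m.h.hq).mp (m.h.hp.dvd_of_dvd_pow h))
        m.h.hpq
    · exact h
  have hpos : 0 < q ^ (i - j) - 1 := by
    have h5 : q ^ 1 ≤ q ^ (i - j) := Nat.pow_le_pow_right m.h.hq.pos (by omega)
    have := m.h.hq.two_le
    rw [pow_one] at h5
    omega
  have hple : p ≤ q ^ (i - j) - 1 := Nat.le_of_dvd hpos hdvd2
  have hle2 : q ^ (i - j) ≤ q ^ (Nat.card G).factorization q :=
    Nat.pow_le_pow_right m.h.hq.pos (by omega)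
  rcases m.h.hlarge with hl | ⟨hl, hab⟩
  · omega
  · have hge : q ^ (Nat.card G).factorization q ≤ q ^ (i - j) := by omega
    have hij : (Nat.card G).factorization q ≤ i - j :=
      (Nat.pow_le_pow_iff_right m.h.hq.one_lt).mp hge
    have hiA' : i = (Nat.card G).factorization q := by omega
    have hUQ' : U = (Q : Subgroup G) :=
      Subgroup.eq_of_le_of_card_ge hUQ (by rw [hQcard, hi, hiA'])
    rw [hUQ'] at hgN hgC
    refine ⟨Q, g, hgN, hgp, hgC, ?_, hab⟩
    have h5 : 1 ≤ q ^ (Nat.card G).factorization q := Nat.one_le_pow _ _ m.h.hq.pos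
    omega

theorem q_eq_two (m : MinCE G p q r) : q = 2 ∧ 2 ≤ (Nat.card G).factorization q := by
  obtain ⟨Q, g, _, _, _, hpa, _⟩ := m.bad
  have hodd : Odd p := m.h.hp.odd_of_ne_two m.h.hp2
  have heven : Even (q ^ (Nat.card G).factorization q) := by
    rw [← hpa]; exact hodd.add_one
  have hA0 : (Nat.card G).factorization q ≠ 0 := by
    intro h0
    rw [h0, pow_zero] at hpa
    have := m.h.hp.pos
    omega
  have hq2 : q = 2 := by
    have h2 : 2 ∣ q := by
      have := even_iff_two_dvd.mp heven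
      exact Nat.Prime.dvd_of_dvd_pow Nat.prime_two this
    exact ((Nat.prime_dvd_prime_iff_eq Nat.prime_two m.h.hq).mp h2).symm
  refine ⟨hq2, ?_⟩
  by_contra hlt
  have h1 : (Nat.card G).factorization q = 1 := by omega
  rw [h1, pow_one, hq2] at hpa
  have hp1 : p = 1 := by omega
  exact m.h.hp.one_lt.ne' hp1

end MinCE

/-- In the case `q = 2`. -/
structure Min2 (G : Type*) [Group G] [Finite G] (p r a : ℕ) : Prop where
  m : MinCE G p 2 r
  ha : 2 ≤ a
  hfac : (Nat.card G).factorization 2 = a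
  hpa : p + 1 = 2 ^ a
  hcomm : ∀ P : Sylow p G, IsMulCommutative P
  ex : ∃ (Q : Sylow 2 G) (g : G), g ∈ Nz (Q : Subgroup G) ∧ IsPElt p g ∧ g ∉ Cz (Q : Subgroup G)

namespace Min2

variable {r a : ℕ}

theorem pab (w : Min2 G p r a) : ∀ K : Subgroup G, IsPGroup p K → ∀ x ∈ K, ∀ y ∈ K,
    x * y = y * x := by
  intro K hK x hx y hy
  have := Fact.mk w.m.h.hp
  obtain ⟨P, hP⟩ := hK.exists_le_sylow
  have h3 := (w.hcomm P).is_comm.comm ⟨x, hP hx⟩ ⟨y, hP hy⟩
  exact congrArg Subtype.val h3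

/-- proper normal subgroups have odd order. -/
theorem no_even_normal (w : Min2 G p r a) (N : Subgroup G) [N.Normal] (hN : N ≠ ⊤)
    (h2 : 2 ∣ Nat.card N) : False := by
  have m := w.m
  obtain ⟨T⟩ : Nonempty (Sylow 2 N) := inferInstance
  have hfr : Nz ((T : Subgroup N).map N.subtype) ⊔ N = ⊤ := Sylow.normalizer_sup_eq_top T
  have hTne : (T : Subgroup N) ≠ ⊥ := T.ne_bot_of_dvd_card h2
  have hcardT' : Nat.card ((T : Subgroup N).map N.subtype) = Nat.card (T : Subgroup N) :=
    Subgroup.card_map_of_injective N.subtype_injective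
  have hT'p : IsPGroup 2 ((T : Subgroup N).map N.subtype) := T.isPGroup'.map _
  have h2T : 2 ∣ Nat.card (T : Subgroup N) := MinCE.dvd_card_of_ne_bot T.isPGroup' hTne
  generalize hT'def : (T : Subgroup N).map N.subtype = T' at *
  have hT'ne : T' ≠ ⊥ := by
    intro h
    rw [h, Subgroup.card_bot] at hcardT'
    rw [← hcardT'] at h2T
    omega
  have hdvd : Nat.card G ∣ Nat.card N * Nat.card (Nz T') := by
    have h3 := card_sup_dvd_of_normal N (Nz T')
    rw [sup_comm, hfr, Subgroup.card_top] at h3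
    exact h3
  have hPQN := m.star N hN h2
  have hNz := m.nz_ne_top hT'p hT'ne
  have h2Nz : 2 ∣ Nat.card (Nz T') := by
    rw [← hcardT'] at h2T
    exact dvd_trans h2T (Subgroup.card_dvd_of_le Subgroup.le_normalizer)
  have hPQNz := m.star _ hNz h2Nz
  rcases (hPQN.mul hPQNz).of_dvd hdvd r m.hr m.hrG with h | h
  · exact m.hrp h
  · exact m.hrq h

/-- proper normal subgroups are `p`-groups. -/
theorem normal_isPGroup (w : Min2 G p r a) (N : Subgroup G) [N.Normal] (hN : N ≠ ⊤) :
    IsPGroup p N := by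
  have m := w.m
  have h2 : ¬ 2 ∣ Nat.card N := fun h => w.no_even_normal N hN h
  have hall : ∀ {d : ℕ}, d.Prime → d ∣ Nat.card N → d = p := by
    intro d hd hdN
    by_contra hdp
    have hd2 : d ≠ 2 := by
      rintro rfl
      exact h2 hdN
    exact m.no_normal_qfree N h2 hd hdN hdp hd2
  exact IsPGroup.of_card (Nat.eq_prime_pow_of_unique_prime_dvd Nat.card_pos.ne' hall)

/-- there is no nontrivial normal `p`-subgroup. -/
theorem normal_pgroup_eq_bot (w : Min2 G p r a) (N : Subgroup G) [hNn : N.Normal]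
    (hNp : IsPGroup p N) : N = ⊥ := by
  have m := w.m
  have hpF := Fact.mk m.h.hp
  by_contra hN1
  obtain ⟨P, hNP⟩ := hNp.exists_le_sylow
  have hPab := w.pab P P.isPGroup'
  obtain ⟨Q⟩ : Nonempty (Sylow 2 G) := inferInstance
  have hQne : (Q : Subgroup G) ≠ ⊥ := Q.ne_bot_of_dvd_card m.h.hqG
  have h2Q : 2 ∣ Nat.card (Q : Subgroup G) := MinCE.dvd_card_of_ne_bot Q.isPGroup' hQne
  obtain ⟨A, hA⟩ := IsPGroup.iff_card.mp Q.isPGroup'
  have hPC : (P : Subgroup G) ≤ Subgroup.centralizer (N : Set G) := by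
    intro z hz
    rw [Subgroup.mem_centralizer_iff]
    intro n hn
    exact hPab n (hNP hn) z hz
  by_cases hC : Subgroup.centralizer (N : Set G) = ⊤
  · -- `N` is central
    have hcentral : ∀ z ∈ N, ∀ x : G, x * z = z * x := by
      intro z hz x
      have hx : x ∈ Subgroup.centralizer (N : Set G) := by rw [hC]; exact Subgroup.mem_top x
      exact (Subgroup.mem_centralizer_iff.mp hx z hz).symm
    by_cases hG' : commutator G = ⊤
    · -- transfer into `P`
      apply hN1
      rw [eq_bot_iff]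
      intro z hz
      rw [Subgroup.mem_bot]
      let _ : CommGroup (P : Subgroup G) :=
        { (inferInstance : Group (P : Subgroup G)) with
          mul_comm := fun x y => Subtype.ext (hPab x x.2 y y.2) }
      have key : ∀ (k : ℕ) (g₀ : G), g₀⁻¹ * z ^ k * g₀ ∈ (P : Subgroup G) →
          g₀⁻¹ * z ^ k * g₀ = z ^ k := by
        intro k g₀ _
        have h5 : g₀ * z ^ k = z ^ k * g₀ := by
          have hcm : Commute g₀ z := hcentral z hz g₀
          exact (hcm.pow_right k).eq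
        calc g₀⁻¹ * z ^ k * g₀ = g₀⁻¹ * (z ^ k * g₀) := by group
          _ = g₀⁻¹ * (g₀ * z ^ k) := by rw [h5]
          _ = z ^ k := by group
      have h1 := MonoidHom.transfer_eq_pow (MonoidHom.id (P : Subgroup G)) z key
      have h2 : MonoidHom.transfer (MonoidHom.id (P : Subgroup G)) z = 1 := by
        have h6 : z ∈ (MonoidHom.transfer (MonoidHom.id (P : Subgroup G))).ker :=
          Abelianization.commutator_subset_ker _ (by rw [hG']; exact Subgroup.mem_top z)
        exact h6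
      rw [h2] at h1
      have h3 : z ^ (P : Subgroup G).index = 1 := by
        have := congrArg Subtype.val h1
        simpa using this.symm
      have hzp : IsPElt p z := isPElt_of_mem hNp hz
      obtain ⟨k, hk⟩ := hzp
      have hd : p ^ k ∣ (P : Subgroup G).index := by
        rw [← hk]; exact orderOf_dvd_of_pow_eq_one h3
      have hk0 : k = 0 := by
        by_contra hk0
        exact P.not_dvd_index (dvd_trans (dvd_pow_self p hk0) hd)
      rw [hk0, pow_zero] at hk
      exact orderOf_eq_one_iff.mp hk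
    · -- `G'` is a proper normal subgroup, hence a `p`-group
      have hG'p : IsPGroup p (commutator G) := w.normal_isPGroup _ hG'
      set K : Subgroup G := commutator G ⊔ (Q : Subgroup G) with hK
      have hKn : K.Normal := by
        refine ⟨fun k hk g => ?_⟩
        have h1 : ⁅g, k⁆ ∈ commutator G := by
          rw [commutator_def]
          exact Subgroup.commutator_mem_commutator (Subgroup.mem_top g) (Subgroup.mem_top k)
        have e : g * k * g⁻¹ = ⁅g, k⁆ * k := by rw [commutatorElement_def]; group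
        rw [e]
        exact K.mul_mem ((le_sup_left : commutator G ≤ K) h1) hk
      obtain ⟨j, hj⟩ := IsPGroup.iff_card.mp hG'p
      have hd := card_sup_dvd_of_normal (commutator G) (Q : Subgroup G)
      rw [hj, hA] at hd
      have hKtop : K ≠ ⊤ := by
        intro hKt
        rw [← hK, hKt, Subgroup.card_top] at hd
        exact MinCE.not_dvd_pow_mul_pow m.hr m.h.hp Nat.prime_two m.hrp m.hrq j A
          (dvd_trans m.hrG hd)
      exact w.no_even_normal K hKtop
        (dvd_trans h2Q (Subgroup.card_dvd_of_le le_sup_right))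
  · -- `C(N)` is a proper normal subgroup, hence a `p`-group, hence equal to `P`
    have hCp : IsPGroup p (Subgroup.centralizer (N : Set G)) := w.normal_isPGroup _ hC
    have hCP : Subgroup.centralizer (N : Set G) = (P : Subgroup G) := P.is_maximal' hCp hPC
    have hPn : (P : Subgroup G).Normal := by
      rw [← hCP]; infer_instance
    obtain ⟨K, hK⟩ := Subgroup.exists_right_complement'_of_coprime (N := (P : Subgroup G))
      P.card_coprime_index
    have hmul := hK.card_mul_card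
    have hidx := Subgroup.card_mul_index (P : Subgroup G)
    have hKidx : Nat.card K = (P : Subgroup G).index := by
      have hpos : 0 < Nat.card (P : Subgroup G) := Nat.card_pos
      exact Nat.eq_of_mul_eq_mul_left hpos (hmul.trans hidx.symm)
    have hpK : ¬ p ∣ Nat.card K := by rw [hKidx]; exact P.not_dvd_index
    obtain ⟨b, hb⟩ := IsPGroup.iff_card.mp P.isPGroup'
    have h2K : 2 ∣ Nat.card K := by
      have h5 := m.h.hqG
      rw [← hmul, hb] at h5
      rcases (Nat.Prime.dvd_mul Nat.prime_two).mp h5 with h | h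
      · exact absurd ((Nat.prime_dvd_prime_iff_eq Nat.prime_two m.h.hp).mp
          (Nat.prime_two.dvd_of_dvd_pow h)).symm m.h.hp2
      · exact h
    have hrK : r ∣ Nat.card K := by
      have h5 := m.hrG
      rw [← hmul, hb] at h5
      rcases (Nat.Prime.dvd_mul m.hr).mp h5 with h | h
      · exact absurd ((Nat.prime_dvd_prime_iff_eq m.hr m.h.hp).mp (m.hr.dvd_of_dvd_pow h)) m.hrp
      · exact h
    exact m.false_of_qr h2K m.hr hrK m.hrp m.hrq hpK

theorem isSimple (w : Min2 G p r a) : IsSimpleGroup G := by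
  have m := w.m
  haveI : Nontrivial G := by
    rw [← Finite.one_lt_card_iff_nontrivial]
    exact lt_of_lt_of_le m.h.hp.one_lt (Nat.le_of_dvd Nat.card_pos m.h.hpG)
  refine ⟨fun N hN => ?_⟩
  by_cases hNtop : N = ⊤
  · exact Or.inr hNtop
  · left
    haveI := hN
    exact w.normal_pgroup_eq_bot N (w.normal_isPGroup N hNtop)

/-- the context. -/
theorem ctx (w : Min2 G p r a) : Ctx G p a := by
  have m := w.m
  have hpF := Fact.mk m.h.hp
  refine ⟨m.h.hp, w.ha, w.hpa, ?_, w.pab, ?_, ?_, w.isSimple, ?_⟩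
  · intro S
    rw [S.card_eq_multiplicity, w.hfac]
  · intro S
    obtain ⟨Q, g, hgN, hgp, hgC⟩ := w.ex
    obtain ⟨k, hk⟩ := MulAction.exists_smul_eq G Q S
    refine ⟨k * g * k⁻¹, ?_, hgp.conj k, ?_⟩
    · rw [← hk, Subgroup.mem_normalizer_iff]
      intro u
      rw [mem_smul_sylow, mem_smul_sylow]
      have e : k⁻¹ * (k * g * k⁻¹ * u * (k * g * k⁻¹)⁻¹) * k = g * (k⁻¹ * u * k) * g⁻¹ := by group
      rw [e]
      exact Subgroup.mem_normalizer_iff.mp hgN _
    · intro hC
      apply hgC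
      rw [Subgroup.mem_centralizer_iff] at hC ⊢
      intro v hv
      have hv' : k * v * k⁻¹ ∈ (S : Subgroup G) := by
        rw [← hk, mem_smul_sylow]
        have e : k⁻¹ * (k * v * k⁻¹) * k = v := by group
        rw [e]; exact hv
      have h5 := hC _ hv'
      calc v * g = k⁻¹ * ((k * v * k⁻¹) * (k * g * k⁻¹)) * k := by group
        _ = k⁻¹ * ((k * g * k⁻¹) * (k * v * k⁻¹)) * k := by rw [h5]
        _ = g * v := by group
  · intro H hH h2
    exact (m.star H hH h2).two_form Nat.card_pos.ne'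
  · rintro ⟨i, j, hij⟩
    have h5 := m.hrG
    rw [hij] at h5
    exact MinCE.not_dvd_pow_mul_pow m.hr Nat.prime_two m.h.hp m.hrq m.hrp i j h5

end Min2

/-- a minimal counterexample gives a context. -/
theorem MinCE.exists_ctx {r : ℕ} (m : MinCE G p q r) : ∃ a, Ctx G p a := by
  obtain ⟨hq2, ha⟩ := m.q_eq_two
  subst hq2
  obtain ⟨Q, g, hgN, hgp, hgC, hpa, hcomm⟩ := m.bad
  exact ⟨_, (⟨m, ha, rfl, hpa, hcomm, Q, g, hgN, hgp, hgC⟩ : Min2 G p r _).ctx⟩

end Cfsg.Agent.Lib.Helper5.TwoPrime
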