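import Cfsg.Agent.Lib.Helper5.TwoPrime.Conj

set_option autoImplicit false

/-!
# Type I: `C(t) ≤ N(S)` for involutions `t ∈ S` — structure
A pair of non-commuting involutions produces an abelian TI Sylow `p`-subgroup `P` inverted by an
involution, with `C(y) = P` for all `1 ≠ y ∈ P`, and `|N(P)| = 2|P|`.
-/

namespace Cfsg.Agent.Lib.Helper5.TwoPrime

variable {G : Type*} [Group G] [Finite G] {p a : ℕ}

omit [Finite G] in
theorem invol_mem_normalizer {X : Subgroup G} {s : G} (hs : s * s = 1)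
    (h : ∀ u ∈ X, s * u * s⁻¹ ∈ X) : s ∈ Nz X := by
  rw [Subgroup.mem_normalizer_iff]
  intro u
  constructor
  · exact h u
  · intro hu
    have h2 := h _ hu
    have hsi : s⁻¹ = s := inv_eq_of_mul_eq_one_left hs
    have e : s * (s * u * s⁻¹) * s⁻¹ = u := by
      rw [hsi]
      calc s * (s * u * s) * s = (s * s) * u * (s * s) := by group
        _ = u := by rw [hs, one_mul, mul_one]
    rwa [e] at h2

omit [Finite G] in
theorem sq_of_orderOf_two {s : G} (hs : orderOf s = 2) : s * s = 1 := by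
  have := pow_orderOf_eq_one s
  rwa [hs, pow_two] at this

omit [Finite G] in
theorem ne_one_of_orderOf_two {s : G} (hs : orderOf s = 2) : s ≠ 1 := by
  intro h; rw [h, orderOf_one] at hs; omega

omit [Finite G] in
/-- if `s` inverts `g` then `s` normalizes `C(g)`. -/
theorem conj_mem_Ce_of_inv {g s z : G} (hinv : s * g * s⁻¹ = g⁻¹) (hz : z ∈ Ce g) :
    s * z * s⁻¹ ∈ Ce g := by
  rw [Subgroup.mem_centralizer_singleton_iff] at hz ⊢
  have hzi : z * g⁻¹ = g⁻¹ * z := by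
    calc z * g⁻¹ = g⁻¹ * (g * z) * g⁻¹ := by group
      _ = g⁻¹ * (z * g) * g⁻¹ := by rw [hz]
      _ = g⁻¹ * z := by group
  have hg' : s * g⁻¹ * s⁻¹ = g := by
    have : s * g⁻¹ * s⁻¹ = (s * g * s⁻¹)⁻¹ := by group
    rw [this, hinv, inv_inv]
  calc s * z * s⁻¹ * g = s * z * s⁻¹ * (s * g⁻¹ * s⁻¹) := by rw [hg']
    _ = s * (z * g⁻¹) * s⁻¹ := by group
    _ = s * (g⁻¹ * z) * s⁻¹ := by rw [hzi]
    _ = (s * g⁻¹ * s⁻¹) * (s * z * s⁻¹) := by group
    _ = g * (s * z * s⁻¹) := by rw [hg']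

namespace Ctx

/-- Type I hypothesis. -/
def T1 (G : Type*) [Group G] : Prop :=
  ∀ (S : Sylow 2 G) (t : G), t ∈ (S : Subgroup G) → t ≠ 1 → Ce t ≤ Nz (S : Subgroup G)

theorem eq_one_of_inv_self (c : Ctx G p a) {g : G} (hg : IsPElt p g) (h : g = g⁻¹) : g = 1 := by
  have hgg : g ^ 2 ^ 1 = 1 := by
    rw [pow_one, pow_two]
    calc g * g = g * g⁻¹ := by rw [← h]
      _ = 1 := mul_inv_cancel g
  exact eq_one_of_isPElt_of_isPElt c.hp Nat.prime_two c.p_ne_two hg
    (isPElt_of_pow_eq_one Nat.prime_two hgg)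

theorem t1_two_elt (hT1 : T1 G) (S : Sylow 2 G) {s w : G} (hs : s ∈ (S : Subgroup G))
    (hs1 : s ≠ 1) (hw : w ∈ Ce s) (hw2 : IsPElt 2 w) : w ∈ (S : Subgroup G) :=
  two_elt_mem S (hT1 S s hs hs1 hw) hw2

/-- a nontrivial `p`-element commuting with an involution `τ ∈ S`. -/
theorem t1_cent_p (c : Ctx G p a) (hT1 : T1 G) (S : Sylow 2 G) {y τ : G} (hy : IsPElt p y)
    (hy1 : y ≠ 1) (hτ : τ ∈ (S : Subgroup G)) (hτ1 : τ ≠ 1) (hcomm : τ * y = y * τ) :
    (S : Subgroup G) ≤ Ce y ∧ Ce y ≤ Nz (S : Subgroup G) := by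
  have := Fact.mk c.hp
  have hyCτ : y ∈ Ce τ := Subgroup.mem_centralizer_singleton_iff.mpr hcomm.symm
  have hyN : y ∈ Nz (S : Subgroup G) := hT1 S τ hτ hτ1 hyCτ
  have hyC : y ∈ Cz (S : Subgroup G) := by
    rcases c.fix_dich S hyN hy with h | h
    · exact absurd (h τ hτ hcomm) hτ1
    · exact h
  have hSy : (S : Subgroup G) ≤ Ce y := by
    intro u hu
    rw [Subgroup.mem_centralizer_singleton_iff]
    exact Subgroup.mem_centralizer_iff.mp hyC u hu
  refine ⟨hSy, ?_⟩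
  obtain ⟨x, hxN, hx, hxC⟩ := c.ex S
  have hy'p : IsPElt p (⟨y, hyN⟩ : Nz (S : Subgroup G)) := by
    obtain ⟨k, hk⟩ := hy
    exact ⟨k, by rw [← hk]; exact Subgroup.orderOf_mk y hyN⟩
  have hx0p : IsPElt p (⟨x, hxN⟩ : Nz (S : Subgroup G)) := by
    obtain ⟨k, hk⟩ := hx
    exact ⟨k, by rw [← hk]; exact Subgroup.orderOf_mk x hxN⟩
  obtain ⟨PN, hPN⟩ := hy'p.zpowers_isPGroup.exists_le_sylow
  obtain ⟨Px, hPx⟩ := hx0p.zpowers_isPGroup.exists_le_sylow
  obtain ⟨n, hn⟩ := MulAction.exists_smul_eq (Nz (S : Subgroup G)) Px PN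
  have hx'mem : n * ⟨x, hxN⟩ * n⁻¹ ∈ (PN : Subgroup (Nz (S : Subgroup G))) := by
    rw [← hn, mem_smul_sylow]
    have e : n⁻¹ * (n * ⟨x, hxN⟩ * n⁻¹) * n = (⟨x, hxN⟩ : Nz (S : Subgroup G)) := by group
    rw [e]; exact hPx (Subgroup.mem_zpowers _)
  have hKp : IsPGroup p ((PN : Subgroup (Nz (S : Subgroup G))).map (Nz (S : Subgroup G)).subtype) :=
    PN.isPGroup'.map _
  have hyK : y ∈ (PN : Subgroup (Nz (S : Subgroup G))).map (Nz (S : Subgroup G)).subtype :=
    ⟨⟨y, hyN⟩, hPN (Subgroup.mem_zpowers _), rfl⟩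
  have hx'K : (n : G) * x * (n : G)⁻¹ ∈
      (PN : Subgroup (Nz (S : Subgroup G))).map (Nz (S : Subgroup G)).subtype :=
    ⟨n * ⟨x, hxN⟩ * n⁻¹, hx'mem, by simp⟩
  have hcomm' := c.pab _ hKp _ hx'K y hyK
  have hx'N : (n : G) * x * (n : G)⁻¹ ∈ Nz (S : Subgroup G) :=
    Subgroup.mul_mem _ (Subgroup.mul_mem _ n.2 hxN) (Subgroup.inv_mem _ n.2)
  have hx'p : IsPElt p ((n : G) * x * (n : G)⁻¹) := hx.conj _
  have hx'C : (n : G) * x * (n : G)⁻¹ ∉ Cz (S : Subgroup G) := by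
    intro h
    apply hxC
    rw [Subgroup.mem_centralizer_iff] at h ⊢
    intro u hu
    have hu' : (n : G) * u * (n : G)⁻¹ ∈ (S : Subgroup G) :=
      (Subgroup.mem_normalizer_iff.mp n.2 u).mp hu
    have h2 := h _ hu'
    calc u * x = (n : G)⁻¹ * (((n : G) * u * (n : G)⁻¹) * ((n : G) * x * (n : G)⁻¹)) * (n : G) := by
          group
      _ = (n : G)⁻¹ * (((n : G) * x * (n : G)⁻¹) * ((n : G) * u * (n : G)⁻¹)) * (n : G) := by
          rw [h2]
      _ = x * u := by group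
  have hx'Cy : (n : G) * x * (n : G)⁻¹ ∈ Ce y := Subgroup.mem_centralizer_singleton_iff.mpr hcomm'
  exact c.le_normalizer_of_act S _ (Ce y) rfl (c.centralizer_ne_top hy1) hSy
    ⟨_, hx'Cy, hx'N, hx'p, hx'C⟩

/-- `N(⟨g⟩)` is a proper `{2,p}`-group when an involution inverts `g ≠ 1`. -/
theorem card_normalizer_zpowers (c : Ctx G p a) {g s : G} (hg1 : g ≠ 1) (hs : orderOf s = 2)
    (hinv : s * g * s⁻¹ = g⁻¹) (hns : s * g ≠ g * s) :
    s ∈ Nz (Subgroup.zpowers g) ∧ ∃ i j, Nat.card (Nz (Subgroup.zpowers g)) = 2 ^ i * p ^ j := by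
  have hss := sq_of_orderOf_two hs
  have hZne : Subgroup.zpowers g ≠ ⊥ := by rw [Ne, Subgroup.zpowers_eq_bot]; exact hg1
  have hZtop : Subgroup.zpowers g ≠ ⊤ := by
    intro h
    apply hns
    have hs' : s ∈ Subgroup.zpowers g := by rw [h]; exact Subgroup.mem_top s
    obtain ⟨m, hm⟩ := Subgroup.mem_zpowers_iff.mp hs'
    have h1 := Commute.zpow_zpow_self g m 1
    rw [hm, zpow_one] at h1
    exact h1.eq
  have hsN : s ∈ Nz (Subgroup.zpowers g) := by
    apply invol_mem_normalizer hss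
    intro u hu
    obtain ⟨n, rfl⟩ := Subgroup.mem_zpowers_iff.mp hu
    rw [← conj_zpow, hinv]
    exact Subgroup.zpow_mem _ (Subgroup.inv_mem _ (Subgroup.mem_zpowers g)) n
  refine ⟨hsN, ?_⟩
  have h2N : 2 ∣ Nat.card (Nz (Subgroup.zpowers g)) := by
    have := orderOf_dvd_natCard (⟨s, hsN⟩ : Nz (Subgroup.zpowers g))
    rwa [Subgroup.orderOf_mk, hs] at this
  exact c.prop _ (c.normalizer_ne_top hZne hZtop) h2N

/-- the product of two non-commuting involutions is a nontrivial `p`-element. -/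
theorem t1_prod (c : Ctx G p a) (hT1 : T1 G) {s t : G} (hs : orderOf s = 2) (ht : orderOf t = 2)
    (hst : s * t ≠ t * s) :
    IsPElt p (s * t) ∧ s * t ≠ 1 ∧ s * (s * t) * s⁻¹ = (s * t)⁻¹ := by
  have hss := sq_of_orderOf_two hs
  have htt := sq_of_orderOf_two ht
  have hsi : s⁻¹ = s := inv_eq_of_mul_eq_one_left hss
  have hti : t⁻¹ = t := inv_eq_of_mul_eq_one_left htt
  have hinv : s * (s * t) * s⁻¹ = (s * t)⁻¹ := by
    rw [mul_inv_rev, hsi, hti]
    calc s * (s * t) * s = (s * s) * t * s := by group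
      _ = t * s := by rw [hss, one_mul]
  have hg1 : s * t ≠ 1 := by
    intro h
    apply hst
    have h2 : t = s⁻¹ := eq_inv_of_mul_eq_one_right h
    rw [h2, hsi]
  have hns : s * (s * t) ≠ (s * t) * s := by
    intro h
    apply hst
    have e1 : s * (s * t) = t := by rw [← mul_assoc, hss, one_mul]
    rw [e1] at h
    -- h : t = s * t * s
    calc s * t = s * (s * t * s) := by rw [← h]
      _ = (s * s) * t * s := by group
      _ = t * s := by rw [hss, one_mul]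
  refine ⟨?_, hg1, hinv⟩
  generalize hgdef : s * t = g at *
  obtain ⟨hsN, i, j, hij⟩ := c.card_normalizer_zpowers hg1 hs hinv hns
  have hgN : g ∈ Nz (Subgroup.zpowers g) := Subgroup.le_normalizer (Subgroup.mem_zpowers g)
  have hord : orderOf g ∣ 2 ^ i * p ^ j := by
    have := orderOf_dvd_natCard (⟨g, hgN⟩ : Nz (Subgroup.zpowers g))
    rwa [Subgroup.orderOf_mk, hij] at this
  have hodd : ¬ 2 ∣ orderOf g := by
    intro h2
    have hpos : 0 < orderOf g := orderOf_pos g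
    have hz2 : orderOf (g ^ (orderOf g / 2)) = 2 := orderOf_pow_orderOf_div hpos.ne' h2
    generalize hzdef : g ^ (orderOf g / 2) = z at hz2
    obtain ⟨Sz, hzS⟩ := exists_sylow_of_two_elt (isPElt_two_of_orderOf hz2)
    have hz1 := ne_one_of_orderOf_two hz2
    have hzz := sq_of_orderOf_two hz2
    have hzi : z⁻¹ = z := inv_eq_of_mul_eq_one_left hzz
    have hgz : g ∈ Ce z := by
      rw [Subgroup.mem_centralizer_singleton_iff, ← hzdef]
      exact ((Commute.refl g).pow_right _).eq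
    have hsz : s ∈ Ce z := by
      rw [Subgroup.mem_centralizer_singleton_iff]
      have h1 : s * z * s⁻¹ = z := by
        rw [← hzdef, ← conj_pow, hinv, inv_pow, hzdef, hzi]
      calc s * z = (s * z * s⁻¹) * s := by group
        _ = z * s := by rw [h1]
    have htz : t ∈ Ce z := by
      have e : t = s⁻¹ * g := by rw [← hgdef]; group
      rw [e]; exact Subgroup.mul_mem _ (Subgroup.inv_mem _ hsz) hgz
    have hsS := t1_two_elt hT1 Sz hzS hz1 hsz (isPElt_two_of_orderOf hs)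
    have htS := t1_two_elt hT1 Sz hzS hz1 htz (isPElt_two_of_orderOf ht)
    apply hst
    rw [← hgdef]
    exact c.comm Sz hsS htS
  have hcop : Nat.Coprime (orderOf g) (2 ^ i) :=
    Nat.Coprime.pow_right i ((Nat.Prime.coprime_iff_not_dvd Nat.prime_two).mpr hodd).symm
  have hd : orderOf g ∣ p ^ j := hcop.dvd_of_dvd_mul_left hord
  obtain ⟨k, _, hk⟩ := (Nat.dvd_prime_pow c.hp).mp hd
  exact ⟨k, hk⟩

/-- no involution centralizes a nontrivial `p`-element inverted by an involution. -/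
theorem t1_no_invol (c : Ctx G p a) (hT1 : T1 G) {g s : G} (hg : IsPElt p g) (hg1 : g ≠ 1)
    (hs : orderOf s = 2) (hinv : s * g * s⁻¹ = g⁻¹) :
    ∀ τ : G, orderOf τ = 2 → τ * g ≠ g * τ := by
  intro τ hτ hcomm
  have hss := sq_of_orderOf_two hs
  obtain ⟨S, hτS⟩ := exists_sylow_of_two_elt (isPElt_two_of_orderOf hτ)
  obtain ⟨hSg, hgN⟩ := c.t1_cent_p hT1 S hg hg1 hτS (ne_one_of_orderOf_two hτ) hcomm
  have hsN : s ∈ Nz (S : Subgroup G) := by
    apply invol_mem_normalizer hss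
    intro u hu
    exact two_elt_mem S (hgN (conj_mem_Ce_of_inv hinv (hSg hu)))
      ((isPElt_of_mem S.isPGroup' hu).conj s)
  have hsS : s ∈ (S : Subgroup G) := two_elt_mem S hsN (isPElt_two_of_orderOf hs)
  have hsg : s * g = g * s := Subgroup.mem_centralizer_singleton_iff.mp (hSg hsS)
  have hgg : g = g⁻¹ := by
    calc g = (g * s) * s⁻¹ := by group
      _ = (s * g) * s⁻¹ := by rw [hsg]
      _ = g⁻¹ := hinv
  exact hg1 (c.eq_one_of_inv_self hg hgg)

theorem not_comm_of_inv (c : Ctx G p a) {g s : G} (hg : IsPElt p g) (hg1 : g ≠ 1)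
    (hinv : s * g * s⁻¹ = g⁻¹) : s * g ≠ g * s := by
  intro hsg
  have hgg : g = g⁻¹ := by
    calc g = (g * s) * s⁻¹ := by group
      _ = (s * g) * s⁻¹ := by rw [hsg]
      _ = g⁻¹ := hinv
  exact hg1 (c.eq_one_of_inv_self hg hgg)

/-- `C(g)` is a Sylow `p`-subgroup. -/
theorem t1_sylow (c : Ctx G p a) (hT1 : T1 G) {g s : G} (hg : IsPElt p g) (hg1 : g ≠ 1)
    (hs : orderOf s = 2) (hinv : s * g * s⁻¹ = g⁻¹) :
    ∃ P : Sylow p G, (P : Subgroup G) = Ce g := by
  have := Fact.mk c.hp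
  have hnoinv := c.t1_no_invol hT1 hg hg1 hs hinv
  obtain ⟨hsN, i, j, hij⟩ := c.card_normalizer_zpowers hg1 hs hinv (c.not_comm_of_inv hg hg1 hinv)
  have hCN : Ce g ≤ Nz (Subgroup.zpowers g) := by
    intro z hz
    apply Cz_le_Nz
    rw [Subgroup.mem_centralizer_iff]
    intro u hu
    obtain ⟨n, rfl⟩ := Subgroup.mem_zpowers_iff.mp hu
    have hcm : Commute g z := (Subgroup.mem_centralizer_singleton_iff.mp hz).symm
    exact (hcm.zpow_left n).eq
  have hdvd : Nat.card (Ce g) ∣ 2 ^ i * p ^ j := hij ▸ Subgroup.card_dvd_of_le hCN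
  have hodd : ¬ 2 ∣ Nat.card (Ce g) := by
    intro h2
    obtain ⟨τ, hτ⟩ := exists_prime_orderOf_dvd_card' (G := Ce g) 2 h2
    have hτ' : orderOf (τ : G) = 2 := by rw [Subgroup.orderOf_coe]; exact hτ
    exact hnoinv τ hτ' (Subgroup.mem_centralizer_singleton_iff.mp τ.2)
  have hcop : Nat.Coprime (Nat.card (Ce g)) (2 ^ i) :=
    Nat.Coprime.pow_right i ((Nat.Prime.coprime_iff_not_dvd Nat.prime_two).mpr hodd).symm
  have hdvd' : Nat.card (Ce g) ∣ p ^ j := hcop.dvd_of_dvd_mul_left hdvd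
  obtain ⟨k, _, hk⟩ := (Nat.dvd_prime_pow c.hp).mp hdvd'
  have hCp : IsPGroup p (Ce g) := IsPGroup.of_card hk
  obtain ⟨P, hP⟩ := hCp.exists_le_sylow
  refine ⟨P, le_antisymm ?_ hP⟩
  intro y hy
  rw [Subgroup.mem_centralizer_singleton_iff]
  exact c.pab P P.isPGroup' y hy g (hP (Subgroup.mem_centralizer_singleton_iff.mpr rfl))

/-- `s` inverts all of `P = C(g)`. -/
theorem t1_inverts (c : Ctx G p a) (hT1 : T1 G) {g s : G} (hg : IsPElt p g) (hg1 : g ≠ 1)
    (hs : orderOf s = 2) (hinv : s * g * s⁻¹ = g⁻¹) {P : Sylow p G}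
    (hP : (P : Subgroup G) = Ce g) : ∀ y ∈ (P : Subgroup G), s * y * s⁻¹ = y⁻¹ := by
  have := Fact.mk c.hp
  have hss := sq_of_orderOf_two hs
  have hsi : s⁻¹ = s := inv_eq_of_mul_eq_one_left hss
  have hgP : g ∈ (P : Subgroup G) := by
    rw [hP]; exact Subgroup.mem_centralizer_singleton_iff.mpr rfl
  have hsNP : s ∈ Nz (P : Subgroup G) := by
    apply invol_mem_normalizer hss
    intro u hu
    rw [hP] at hu ⊢
    exact conj_mem_Ce_of_inv hinv hu
  intro y hy
  have hconj : s * y * s⁻¹ ∈ (P : Subgroup G) := (Subgroup.mem_normalizer_iff.mp hsNP y).mp hy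
  have hwP : y * (s * y * s⁻¹) ∈ (P : Subgroup G) := Subgroup.mul_mem _ hy hconj
  have h1 : s * (s * y * s⁻¹) * s⁻¹ = y := by
    rw [hsi]
    calc s * (s * y * s) * s = (s * s) * y * (s * s) := by group
      _ = y := by rw [hss, one_mul, mul_one]
  have hws' : s * (y * (s * y * s⁻¹)) * s⁻¹ = y * (s * y * s⁻¹) := by
    calc s * (y * (s * y * s⁻¹)) * s⁻¹ = (s * y * s⁻¹) * (s * (s * y * s⁻¹) * s⁻¹) := by group
      _ = (s * y * s⁻¹) * y := by rw [h1]
      _ = y * (s * y * s⁻¹) := c.pab P P.isPGroup' _ hconj y hy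
  have hws : s * (y * (s * y * s⁻¹)) = (y * (s * y * s⁻¹)) * s := by
    calc s * (y * (s * y * s⁻¹)) = (s * (y * (s * y * s⁻¹)) * s⁻¹) * s := by group
      _ = (y * (s * y * s⁻¹)) * s := by rw [hws']
  by_cases hw1 : y * (s * y * s⁻¹) = 1
  · exact eq_inv_of_mul_eq_one_right hw1
  · exfalso
    obtain ⟨S, hsS⟩ := exists_sylow_of_two_elt (isPElt_two_of_orderOf hs)
    obtain ⟨_, hwN⟩ := c.t1_cent_p hT1 S (isPElt_of_mem P.isPGroup' hwP) hw1 hsS
      (ne_one_of_orderOf_two hs) hws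
    have hPN : (P : Subgroup G) ≤ Nz (S : Subgroup G) := fun z hz =>
      hwN (Subgroup.mem_centralizer_singleton_iff.mpr (c.pab P P.isPGroup' z hz _ hwP))
    have hsg : s * g = g * s :=
      comm_of_normalize (c.inf_eq_bot S.isPGroup' P.isPGroup') hsS hgP hsNP (hPN hgP)
    exact c.not_comm_of_inv hg hg1 hinv hsg

/-- The Type I configuration: an abelian Sylow `p`-subgroup inverted by an involution, with
`C(y) = P` for all nontrivial `y ∈ P`. -/
structure T1Cfg (p : ℕ) (P : Sylow p G) (s : G) : Prop where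
  hs : orderOf s = 2
  ne : (P : Subgroup G) ≠ ⊥
  inv : ∀ y ∈ (P : Subgroup G), s * y * s⁻¹ = y⁻¹
  cent : ∀ y ∈ (P : Subgroup G), y ≠ 1 → Ce y = (P : Subgroup G)

theorem t1_cfg (c : Ctx G p a) (hT1 : T1 G) {s t : G} (hs : orderOf s = 2) (ht : orderOf t = 2)
    (hst : s * t ≠ t * s) : ∃ P : Sylow p G, T1Cfg p P s := by
  have := Fact.mk c.hp
  obtain ⟨hg, hg1, hinv⟩ := c.t1_prod hT1 hs ht hst
  obtain ⟨P, hP⟩ := c.t1_sylow hT1 hg hg1 hs hinv
  have hI := c.t1_inverts hT1 hg hg1 hs hinv hP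
  refine ⟨P, hs, ?_, hI, ?_⟩
  · intro h
    apply hg1
    have hm : s * t ∈ (P : Subgroup G) := by
      rw [hP]; exact Subgroup.mem_centralizer_singleton_iff.mpr rfl
    rw [h] at hm; exact Subgroup.mem_bot.mp hm
  · intro y hy hy1
    obtain ⟨Py, hPy⟩ := c.t1_sylow hT1 (isPElt_of_mem P.isPGroup' hy) hy1 hs (hI y hy)
    have hle : (P : Subgroup G) ≤ (Py : Subgroup G) := by
      rw [hPy]
      intro z hz
      rw [Subgroup.mem_centralizer_singleton_iff]
      exact c.pab P P.isPGroup' z hz y hy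
    have hPP : P = Py := sylow_eq_of_le hle
    rw [← hPy, ← hPP]

namespace T1Cfg

variable {P : Sylow p G} {s : G}

/-- no involution commutes with a nontrivial `p`-element. -/
theorem nocomm (h : T1Cfg p P s) (c : Ctx G p a) {w τ : G} (hw : IsPElt p w) (hw1 : w ≠ 1)
    (hτ : orderOf τ = 2) : τ * w ≠ w * τ := by
  intro hcomm
  have := Fact.mk c.hp
  obtain ⟨P', hP'⟩ := hw.zpowers_isPGroup.exists_le_sylow
  obtain ⟨k, hk⟩ := MulAction.exists_smul_eq G P' P
  have hwP : k * w * k⁻¹ ∈ (P : Subgroup G) := by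
    rw [← hk, mem_smul_sylow]
    have e : k⁻¹ * (k * w * k⁻¹) * k = w := by group
    rw [e]; exact hP' (Subgroup.mem_zpowers w)
  have hw1' : k * w * k⁻¹ ≠ 1 := by
    rw [Ne, conj_eq_one_iff]; exact hw1
  have hC := h.cent _ hwP hw1'
  have hτC : k * τ * k⁻¹ ∈ Ce (k * w * k⁻¹) := by
    rw [mem_Ce_conj]
    have e : k⁻¹ * (k * τ * k⁻¹) * k = τ := by group
    rw [e]; exact Subgroup.mem_centralizer_singleton_iff.mpr hcomm
  rw [hC] at hτC
  have h2 : IsPElt 2 (k * τ * k⁻¹) := (isPElt_two_of_orderOf hτ).conj k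
  have h1 := eq_one_of_isPElt_of_isPElt c.hp Nat.prime_two c.p_ne_two
    (isPElt_of_mem P.isPGroup' hτC) h2
  rw [conj_eq_one_iff] at h1
  exact ne_one_of_orderOf_two hτ h1

/-- centralizers of involutions are Sylow 2-subgroups. -/
theorem cent_invol (h : T1Cfg p P s) (c : Ctx G p a) {τ : G} (hτ : orderOf τ = 2)
    (S : Sylow 2 G) (hτS : τ ∈ (S : Subgroup G)) : Ce τ = (S : Subgroup G) := by
  have := Fact.mk c.hp
  have hτ1 := ne_one_of_orderOf_two hτ
  have hSle : (S : Subgroup G) ≤ Ce τ := by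
    intro u hu
    rw [Subgroup.mem_centralizer_singleton_iff]
    exact c.comm S hu hτS
  have htop := c.centralizer_ne_top hτ1
  have h2 : 2 ∣ Nat.card (Ce τ) := by
    have h3 : 2 ∣ Nat.card (S : Subgroup G) := by
      rw [c.card2 S]; exact dvd_pow_self 2 (by have := c.ha; omega)
    exact dvd_trans h3 (Subgroup.card_dvd_of_le hSle)
  obtain ⟨i, j, hij⟩ := c.prop _ htop h2
  have hj : ¬ p ∣ Nat.card (Ce τ) := by
    intro hp
    obtain ⟨w, hw⟩ := exists_prime_orderOf_dvd_card' (G := Ce τ) p hp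
    have hw' : orderOf (w : G) = p := by rw [Subgroup.orderOf_coe]; exact hw
    have hwp : IsPElt p (w : G) := ⟨1, by rw [hw', pow_one]⟩
    have hw1 : (w : G) ≠ 1 := by
      intro e; rw [e, orderOf_one] at hw'; have := c.p_ge; omega
    exact h.nocomm c hwp hw1 hτ (Subgroup.mem_centralizer_singleton_iff.mp w.2).symm
  have hj0 : j = 0 := by
    by_contra hj0
    apply hj
    rw [hij]
    exact dvd_mul_of_dvd_right (dvd_pow_self p hj0) _
  rw [hj0, pow_zero, mul_one] at hij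
  have hC2 : IsPGroup 2 (Ce τ) := IsPGroup.of_card hij
  exact S.is_maximal' hC2 hSle

omit [Finite G] in
theorem conj (h : T1Cfg p P s) (k : G) : T1Cfg p (k • P) (k * s * k⁻¹) := by
  refine ⟨?_, ?_, ?_, ?_⟩
  · have := (MulAut.conj k).orderOf_eq s
    rw [MulAut.conj_apply] at this
    rw [this, h.hs]
  · intro hbot
    apply h.ne
    rw [eq_bot_iff]
    intro y hy
    have hm : k * y * k⁻¹ ∈ ((k • P : Sylow p G) : Subgroup G) := by
      rw [mem_smul_sylow]
      have e : k⁻¹ * (k * y * k⁻¹) * k = y := by group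
      rw [e]; exact hy
    rw [hbot, Subgroup.mem_bot, conj_eq_one_iff] at hm
    exact Subgroup.mem_bot.mpr hm
  · intro y hy
    rw [mem_smul_sylow] at hy
    have h1 := h.inv _ hy
    calc k * s * k⁻¹ * y * (k * s * k⁻¹)⁻¹ = k * (s * (k⁻¹ * y * k) * s⁻¹) * k⁻¹ := by group
      _ = k * (k⁻¹ * y * k)⁻¹ * k⁻¹ := by rw [h1]
      _ = y⁻¹ := by group
  · intro y hy hy1
    rw [mem_smul_sylow] at hy
    have hy1' : k⁻¹ * y * k ≠ 1 := by
      intro e
      apply hy1
      have e2 : y = k * (k⁻¹ * y * k) * k⁻¹ := by group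
      rw [e2, e]; group
    have hC := h.cent _ hy hy1'
    ext z
    rw [mem_smul_sylow, ← hC]
    have e2 : y = k * (k⁻¹ * y * k) * k⁻¹ := by group
    conv_lhs => rw [e2]
    exact mem_Ce_conj

/-- every Sylow `p`-subgroup carries the configuration. -/
theorem all (h : T1Cfg p P s) (c : Ctx G p a) (P' : Sylow p G) : ∃ s' : G, T1Cfg p P' s' := by
  have := Fact.mk c.hp
  obtain ⟨k, hk⟩ := MulAction.exists_smul_eq G P P'
  exact ⟨k * s * k⁻¹, hk ▸ h.conj k⟩

omit [Finite G] in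
theorem mem_normalizer (h : T1Cfg p P s) : s ∈ Nz (P : Subgroup G) := by
  apply invol_mem_normalizer (sq_of_orderOf_two h.hs)
  intro u hu
  rw [h.inv u hu]; exact Subgroup.inv_mem _ hu

/-- involutions of `N(P)` invert `P`. -/
theorem invol_inverts (h : T1Cfg p P s) (c : Ctx G p a) {τ : G} (hτ : orderOf τ = 2)
    (hτN : τ ∈ Nz (P : Subgroup G)) : ∀ y ∈ (P : Subgroup G), τ * y * τ⁻¹ = y⁻¹ := by
  have := Fact.mk c.hp
  have hss := sq_of_orderOf_two hτ
  have hsi : τ⁻¹ = τ := inv_eq_of_mul_eq_one_left hss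
  intro y hy
  have hconj : τ * y * τ⁻¹ ∈ (P : Subgroup G) := (Subgroup.mem_normalizer_iff.mp hτN y).mp hy
  have hwP : y * (τ * y * τ⁻¹) ∈ (P : Subgroup G) := Subgroup.mul_mem _ hy hconj
  have h1 : τ * (τ * y * τ⁻¹) * τ⁻¹ = y := by
    rw [hsi]
    calc τ * (τ * y * τ) * τ = (τ * τ) * y * (τ * τ) := by group
      _ = y := by rw [hss, one_mul, mul_one]
  have hws' : τ * (y * (τ * y * τ⁻¹)) * τ⁻¹ = y * (τ * y * τ⁻¹) := by
    calc τ * (y * (τ * y * τ⁻¹)) * τ⁻¹ = (τ * y * τ⁻¹) * (τ * (τ * y * τ⁻¹) * τ⁻¹) := by group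
      _ = (τ * y * τ⁻¹) * y := by rw [h1]
      _ = y * (τ * y * τ⁻¹) := c.pab P P.isPGroup' _ hconj y hy
  have hws : τ * (y * (τ * y * τ⁻¹)) = (y * (τ * y * τ⁻¹)) * τ := by
    calc τ * (y * (τ * y * τ⁻¹)) = (τ * (y * (τ * y * τ⁻¹)) * τ⁻¹) * τ := by group
      _ = (y * (τ * y * τ⁻¹)) * τ := by rw [hws']
  by_cases hw1 : y * (τ * y * τ⁻¹) = 1
  · exact eq_inv_of_mul_eq_one_right hw1
  · exact absurd hws (h.nocomm c (isPElt_of_mem P.isPGroup' hwP) hw1 hτ)

omit [Finite G] in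
/-- `p`-elements of `N(P)` lie in `P`. -/
theorem mem_of_isPElt [Fact p.Prime] {z : G} (hzN : z ∈ Nz (P : Subgroup G)) (hz : IsPElt p z) :
    z ∈ (P : Subgroup G) := by
  have hzn : Subgroup.zpowers z ≤ Nz (P : Subgroup G) := by
    rw [Subgroup.zpowers_le]; exact hzN
  have hL : IsPGroup p ((P : Subgroup G) ⊔ Subgroup.zpowers z : Subgroup G) :=
    IsPGroup.to_sup_of_normal_left' P.isPGroup' hz.zpowers_isPGroup hzn
  have hEq := P.is_maximal' hL le_sup_left
  rw [← hEq]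
  exact (le_sup_right : Subgroup.zpowers z ≤ _) (Subgroup.mem_zpowers z)

/-- elements of `N(P)` outside `P` are involutions. -/
theorem outside (h : T1Cfg p P s) (c : Ctx G p a) {z : G} (hzN : z ∈ Nz (P : Subgroup G))
    (hzP : z ∉ (P : Subgroup G)) : orderOf z = 2 := by
  have := Fact.mk c.hp
  have hPtop : (P : Subgroup G) ≠ ⊤ := c.ne_top_of_isPGroup P.isPGroup'
  have hNtop := c.normalizer_ne_top h.ne hPtop
  have hsN := h.mem_normalizer
  have h2N : 2 ∣ Nat.card (Nz (P : Subgroup G)) := by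
    have := orderOf_dvd_natCard (⟨s, hsN⟩ : Nz (P : Subgroup G))
    rwa [Subgroup.orderOf_mk, h.hs] at this
  obtain ⟨i, j, hij⟩ := c.prop _ hNtop h2N
  have hord : orderOf z ∣ 2 ^ i * p ^ j := by
    have := orderOf_dvd_natCard (⟨z, hzN⟩ : Nz (P : Subgroup G))
    rwa [Subgroup.orderOf_mk, hij] at this
  have hpow : z ^ (2 ^ i * p ^ j) = 1 := orderOf_dvd_iff_pow_eq_one.mp hord
  have hzp : IsPElt p (z ^ 2 ^ i) := by
    apply isPElt_of_pow_eq_one c.hp (k := j)
    rw [← pow_mul]; exact hpow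
  have hz2 : IsPElt 2 (z ^ p ^ j) := by
    apply isPElt_of_pow_eq_one Nat.prime_two (k := i)
    rw [← pow_mul, mul_comm]; exact hpow
  have hzpP : z ^ 2 ^ i ∈ (P : Subgroup G) := mem_of_isPElt (Subgroup.pow_mem _ hzN _) hzp
  have hz2ne : z ^ p ^ j ≠ 1 := by
    intro e
    apply hzP
    exact mem_of_isPElt hzN (isPElt_of_pow_eq_one c.hp e)
  obtain ⟨S', hS'⟩ := exists_sylow_of_two_elt hz2
  have hz2ord : orderOf (z ^ p ^ j) = 2 := orderOf_two_of_sq (c.sq S' hS') hz2ne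
  have hinv := h.invol_inverts c hz2ord (Subgroup.pow_mem _ hzN _) _ hzpP
  have hcm : Commute (z ^ p ^ j) (z ^ 2 ^ i) := Commute.pow_pow_self z _ _
  have hzp1 : z ^ 2 ^ i = 1 := by
    apply c.eq_one_of_inv_self hzp
    calc z ^ 2 ^ i = (z ^ 2 ^ i * z ^ p ^ j) * (z ^ p ^ j)⁻¹ := by group
      _ = (z ^ p ^ j * z ^ 2 ^ i) * (z ^ p ^ j)⁻¹ := by rw [hcm.eq]
      _ = (z ^ 2 ^ i)⁻¹ := hinv
  have hz2' : IsPElt 2 z := isPElt_of_pow_eq_one Nat.prime_two hzp1
  obtain ⟨S'', hS''⟩ := exists_sylow_of_two_elt hz2'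
  have hz1 : z ≠ 1 := by
    intro e; apply hzP; rw [e]; exact Subgroup.one_mem _
  exact orderOf_two_of_sq (c.sq S'' hS'') hz1

omit [Finite G] in
/-- `C(P) = P`. -/
theorem centralizer_le (h : T1Cfg p P s) : Cz (P : Subgroup G) ≤ (P : Subgroup G) := by
  obtain ⟨y, hy, hy1⟩ : ∃ y ∈ (P : Subgroup G), y ≠ 1 := by
    by_contra hcon
    push Not at hcon
    apply h.ne
    rw [eq_bot_iff]
    intro z hz
    exact Subgroup.mem_bot.mpr (hcon z hz)
  intro z hz
  rw [← h.cent y hy hy1, Subgroup.mem_centralizer_singleton_iff]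
  exact (Subgroup.mem_centralizer_iff.mp hz y hy).symm

/-- `|N(P)| = 2|P|`. -/
theorem card_normalizer (h : T1Cfg p P s) (c : Ctx G p a) :
    Nat.card (Nz (P : Subgroup G)) = 2 * Nat.card (P : Subgroup G) := by
  classical
  have := Fact.mk c.hp
  have hss := sq_of_orderOf_two h.hs
  have hsi : s⁻¹ = s := inv_eq_of_mul_eq_one_left hss
  have hsN := h.mem_normalizer
  have hsP : s ∉ (P : Subgroup G) := by
    intro hs
    exact ne_one_of_orderOf_two h.hs (eq_one_of_isPElt_of_isPElt c.hp Nat.prime_two c.p_ne_two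
      (isPElt_of_mem P.isPGroup' hs) (isPElt_two_of_orderOf h.hs))
  have hset : ((Nz (P : Subgroup G) : Subgroup G) : Set G) =
      ((P : Subgroup G) : Set G) ∪ (fun y => s * y) '' ((P : Subgroup G) : Set G) := by
    ext z
    constructor
    · intro hz
      by_cases hzP : z ∈ (P : Subgroup G)
      · exact Or.inl hzP
      · right
        have hz2 := h.outside c hz hzP
        have hzi := h.invol_inverts c hz2 hz
        refine ⟨s * z, ?_, ?_⟩
        · apply h.centralizer_le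
          rw [Subgroup.mem_centralizer_iff]
          intro y hy
          have h1 := hzi y hy
          have h2 := h.inv _ (Subgroup.inv_mem _ hy)
          rw [inv_inv] at h2
          -- (s z) y (s z)⁻¹ = y
          have h3 : s * z * y * (s * z)⁻¹ = y := by
            calc s * z * y * (s * z)⁻¹ = s * (z * y * z⁻¹) * s⁻¹ := by group
              _ = s * y⁻¹ * s⁻¹ := by rw [h1]
              _ = y := h2
          calc y * (s * z) = (s * z * y * (s * z)⁻¹) * (s * z) := by rw [h3]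
            _ = s * z * y := by group
        · show s * (s * z) = z
          rw [← mul_assoc, hss, one_mul]
    · rintro (hz | ⟨y, hy, rfl⟩)
      · exact Subgroup.le_normalizer hz
      · exact Subgroup.mul_mem _ hsN (Subgroup.le_normalizer hy)
  have hdisj : Disjoint (((P : Subgroup G) : Set G))
      ((fun y => s * y) '' ((P : Subgroup G) : Set G)) := by
    rw [Set.disjoint_left]
    rintro z hz ⟨y, hy, rfl⟩
    apply hsP
    have : s = (s * y) * y⁻¹ := by group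
    rw [this]; exact Subgroup.mul_mem _ hz (Subgroup.inv_mem _ hy)
  have hinj : Function.Injective (fun y : G => s * y) := mul_right_injective s
  have h1 : Nat.card (Nz (P : Subgroup G)) = ((Nz (P : Subgroup G) : Subgroup G) : Set G).ncard :=
    Nat.card_coe_set_eq _
  have h2 : Nat.card (P : Subgroup G) = (((P : Subgroup G)) : Set G).ncard := Nat.card_coe_set_eq _
  rw [h1, hset, Set.ncard_union_eq hdisj (Set.toFinite _) (Set.toFinite _),
    Set.ncard_image_of_injective _ hinj, ← h2]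
  ring

end T1Cfg

end Ctx

end Cfsg.Agent.Lib.Helper5.TwoPrime
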