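import Mathlib

set_option autoImplicit false

/-!
# Utilities for S4017 (two-prime conclusion)
Conjugation action of a subgroup of a normalizer, fixed point congruence, Bezout decomposition,
normal Hall p-subgroups contain all p-elements, relative Burnside transfer.
-/

namespace Cfsg.Agent.Lib.Helper5.TwoPrime

variable {G : Type*} [Group G]

/-- normalizer of a subgroup (as a subgroup). -/
abbrev Nz (X : Subgroup G) : Subgroup G := Subgroup.normalizer (X : Set G)
/-- centralizer of a subgroup. -/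
abbrev Cz (X : Subgroup G) : Subgroup G := Subgroup.centralizer (X : Set G)
/-- centralizer of an element. -/
abbrev Ce (g : G) : Subgroup G := Subgroup.centralizer ({g} : Set G)

/-- `g` is a `p`-element. -/
def IsPElt (p : ℕ) (g : G) : Prop := ∃ k : ℕ, orderOf g = p ^ k

theorem IsPElt.pow {p : ℕ} (hp : p.Prime) {g : G} (hg : IsPElt p g) (n : ℕ) : IsPElt p (g ^ n) := by
  obtain ⟨k, hk⟩ := hg
  have h := orderOf_pow_dvd (x := g) n
  rw [hk] at h
  obtain ⟨j, _, hj⟩ := (Nat.dvd_prime_pow hp).mp h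
  exact ⟨j, hj⟩

theorem IsPElt.conj {p : ℕ} {g : G} (hg : IsPElt p g) (h : G) : IsPElt p (h * g * h⁻¹) := by
  obtain ⟨k, hk⟩ := hg
  refine ⟨k, ?_⟩
  have := (MulAut.conj h).orderOf_eq g
  rw [MulAut.conj_apply] at this
  rw [this, hk]

theorem IsPElt.one (p : ℕ) : IsPElt p (1 : G) := ⟨0, by simp⟩

theorem IsPElt.inv {p : ℕ} {g : G} (hg : IsPElt p g) : IsPElt p g⁻¹ := by
  obtain ⟨k, hk⟩ := hg
  exact ⟨k, by rw [orderOf_inv, hk]⟩

theorem IsPElt.zpowers_isPGroup {p : ℕ} [Fact p.Prime] {g : G} (hg : IsPElt p g) :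
    IsPGroup p (Subgroup.zpowers g) := by
  obtain ⟨k, hk⟩ := hg
  exact IsPGroup.of_card (n := k) (by rw [Nat.card_zpowers, hk])

theorem isPElt_of_mem {p : ℕ} [Fact p.Prime] {K : Subgroup G} (hK : IsPGroup p K) {y : G} (hy : y ∈ K) :
    IsPElt p y := by
  obtain ⟨k, hk⟩ := IsPGroup.iff_orderOf.mp hK ⟨y, hy⟩
  exact ⟨k, by rw [← hk, Subgroup.orderOf_mk]⟩

theorem eq_one_of_isPElt_of_isPElt {p q : ℕ} (hp : p.Prime) (hq : q.Prime) (hpq : p ≠ q) {g : G}
    (h1 : IsPElt p g) (h2 : IsPElt q g) : g = 1 := by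
  obtain ⟨k, hk⟩ := h1
  obtain ⟨j, hj⟩ := h2
  have hc : Nat.Coprime (p ^ k) (q ^ j) := Nat.Coprime.pow k j ((Nat.coprime_primes hp hq).mpr hpq)
  rw [← hk, ← hj] at hc
  have : orderOf g = 1 := by simpa using hc
  exact orderOf_eq_one_iff.mp this

theorem isPElt_of_pow_eq_one {p : ℕ} (hp : p.Prime) {g : G} {k : ℕ} (h : g ^ (p ^ k) = 1) : IsPElt p g := by
  have := orderOf_dvd_of_pow_eq_one h
  obtain ⟨j, _, hj⟩ := (Nat.dvd_prime_pow hp).mp this
  exact ⟨j, hj⟩

/-- Conjugation action of a subgroup `Z ≤ N(U)` on `U`. -/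
@[reducible] def conjMulAction (U Z : Subgroup G) (hZ : Z ≤ Nz U) : MulAction Z U where
  smul z u := ⟨(z : G) * u * (z : G)⁻¹, (Subgroup.mem_normalizer_iff.mp (hZ z.2) u).mp u.2⟩
  one_smul u := by
    apply Subtype.ext
    show ((1 : Z) : G) * u * ((1 : Z) : G)⁻¹ = u
    simp
  mul_smul z w u := by
    apply Subtype.ext
    show ((z * w : Z) : G) * u * ((z * w : Z) : G)⁻¹ =
      (z : G) * ((w : G) * u * (w : G)⁻¹) * (z : G)⁻¹
    simp [mul_assoc]

/-- Fixed point congruence for a `p`-element normalizing `U`. -/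
theorem card_modEq_card_fix [Finite G] {p : ℕ} [Fact p.Prime] (U : Subgroup G) (g : G)
    (hg : g ∈ Nz U) (hgp : IsPElt p g) :
    Nat.card U ≡ Nat.card (U ⊓ Ce g : Subgroup G) [MOD p] := by
  have hZ : Subgroup.zpowers g ≤ Nz U := by
    rw [Subgroup.zpowers_le]; exact hg
  let act : MulAction (Subgroup.zpowers g) U := conjMulAction U (Subgroup.zpowers g) hZ
  have hZp : IsPGroup p (Subgroup.zpowers g) := hgp.zpowers_isPGroup
  have h1 := hZp.card_modEq_card_fixedPoints U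
  have h2 : Nat.card (MulAction.fixedPoints (Subgroup.zpowers g) U) =
      Nat.card (U ⊓ Ce g : Subgroup G) := by
    apply Nat.card_congr
    refine ⟨fun u => ⟨u.1.1, Subgroup.mem_inf.mpr ⟨u.1.2, ?_⟩⟩,
      fun c => ⟨⟨c.1, (Subgroup.mem_inf.mp c.2).1⟩, ?_⟩, ?_, ?_⟩
    · show (u.1 : G) ∈ Subgroup.centralizer ({g} : Set G)
      rw [Subgroup.mem_centralizer_singleton_iff]
      have hu := u.2 ⟨g, Subgroup.mem_zpowers g⟩
      have hu' : g * (u.1 : G) * g⁻¹ = (u.1 : G) := congrArg Subtype.val hu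
      calc (u.1 : G) * g = (g * (u.1 : G) * g⁻¹) * g := by rw [hu']
        _ = g * (u.1 : G) := by group
    · intro z
      apply Subtype.ext
      show (z : G) * c.1 * (z : G)⁻¹ = c.1
      have hc0 : (c.1 : G) ∈ Subgroup.centralizer ({g} : Set G) := (Subgroup.mem_inf.mp c.2).2
      have hc : (c.1 : G) * g = g * c.1 := Subgroup.mem_centralizer_singleton_iff.mp hc0
      obtain ⟨n, hn⟩ := Subgroup.mem_zpowers_iff.mp z.2
      rw [← hn]
      have hcm : Commute (g ^ n) (c.1 : G) := Commute.zpow_left (show Commute g c.1 from hc.symm) n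
      rw [hcm.eq, mul_assoc, mul_inv_cancel, mul_one]
    · intro u; exact Subtype.ext (Subtype.ext rfl)
    · intro c; exact Subtype.ext rfl
  rw [h2] at h1; exact h1

/-- Bezout: if `h ^ m` and `h ^ n` lie in `C` with `m, n` coprime then `h ∈ C`. -/
theorem mem_of_pow_mem_of_coprime {C : Subgroup G} (h : G) (m n : ℕ) (hmn : Nat.Coprime m n)
    (hm : h ^ m ∈ C) (hn : h ^ n ∈ C) : h ∈ C := by
  have hb : (1 : ℤ) = (m : ℤ) * Nat.gcdA m n + (n : ℤ) * Nat.gcdB m n := by
    have := Nat.gcd_eq_gcd_ab m n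
    rw [hmn] at this
    simpa using this
  have : h = (h ^ m) ^ (Nat.gcdA m n) * (h ^ n) ^ (Nat.gcdB m n) := by
    rw [← zpow_natCast, ← zpow_natCast, ← zpow_mul, ← zpow_mul, ← zpow_add, ← hb, zpow_one]
  rw [this]; exact C.mul_mem (C.zpow_mem hm _) (C.zpow_mem hn _)

/-- A normal `p`-subgroup `K` of `H` of index prime to `p` contains every `p`-element of `H`. -/
theorem mem_of_isPElt_of_normal_hall [Finite G] {p : ℕ} [Fact p.Prime] {H K : Subgroup G}
    (hKH : K ≤ H) (hn : H ≤ Nz K) (hK : IsPGroup p K) (m : ℕ)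
    (hm : Nat.card H = Nat.card K * m) (hpm : ¬ p ∣ m)
    {y : G} (hyH : y ∈ H) (hy : IsPElt p y) : y ∈ K := by
  have hp : p.Prime := Fact.out
  set L : Subgroup G := K ⊔ Subgroup.zpowers y with hL
  have hzn : Subgroup.zpowers y ≤ Nz K := by
    rw [Subgroup.zpowers_le]; exact hn hyH
  have hLp : IsPGroup p L := IsPGroup.to_sup_of_normal_left' hK hy.zpowers_isPGroup hzn
  have hKL : K ≤ L := le_sup_left
  have hLH : L ≤ H := sup_le hKH (by rw [Subgroup.zpowers_le]; exact hyH)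
  obtain ⟨l, hl⟩ := IsPGroup.iff_card.mp hLp
  obtain ⟨c, hc⟩ := IsPGroup.iff_card.mp hK
  have hd1 : Nat.card L ∣ Nat.card H := Subgroup.card_dvd_of_le hLH
  rw [hm, hl, hc] at hd1
  have hcop : Nat.Coprime (p ^ l) m := Nat.Coprime.pow_left l ((Nat.Prime.coprime_iff_not_dvd hp).mpr hpm)
  have hd2 : p ^ l ∣ p ^ c := hcop.dvd_of_dvd_mul_right hd1
  have hle : Nat.card L ≤ Nat.card K := by
    rw [hl, hc]; exact Nat.le_of_dvd (pow_pos hp.pos c) hd2
  have hEq : K = L := Subgroup.eq_of_le_of_card_ge hKL hle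
  rw [hEq]
  exact (le_sup_right : Subgroup.zpowers y ≤ L) (Subgroup.mem_zpowers y)

/-- Relative Burnside transfer: if `S` is a Sylow `ℓ`-subgroup of `G` contained in `H` with
`N_H(S) ≤ C(S)`, then `H` has a normal complement to `S`. -/
theorem exists_normal_compl [Finite G] {l : ℕ} [Fact l.Prime] (H : Subgroup G) (S : Sylow l G)
    (hSH : (S : Subgroup G) ≤ H)
    (hNC : ∀ h ∈ H, h ∈ Nz (S : Subgroup G) → h ∈ Cz (S : Subgroup G)) :
    ∃ V : Subgroup G, V ≤ H ∧ H ≤ Nz V ∧ Nat.card V * Nat.card S = Nat.card H ∧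
      V ⊓ (S : Subgroup G) = ⊥ := by
  classical
  set S' : Sylow l H := S.subtype hSH with hS'
  have hS'mem : ∀ w : H, w ∈ (S' : Subgroup H) ↔ (w : G) ∈ (S : Subgroup G) := by
    intro w
    rw [hS', Sylow.coe_subtype, Subgroup.mem_subgroupOf]
  have hP : Subgroup.normalizer ((S' : Subgroup H) : Set H) ≤
      Subgroup.centralizer ((S' : Subgroup H) : Set H) := by
    intro z hz
    have hzN : (z : G) ∈ Nz (S : Subgroup G) := by
      rw [Subgroup.mem_normalizer_iff]
      intro u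
      constructor
      · intro hu
        have := (Subgroup.mem_normalizer_iff.mp hz ⟨u, hSH hu⟩).mp ((hS'mem _).mpr hu)
        exact (hS'mem _).mp this
      · intro hu
        have huH : u ∈ H := by
          have h1 : (z : G) * u * (z : G)⁻¹ ∈ H := hSH hu
          have : u = (z : G)⁻¹ * ((z : G) * u * (z : G)⁻¹) * (z : G) := by group
          rw [this]
          exact H.mul_mem (H.mul_mem (H.inv_mem z.2) h1) z.2
        have := (Subgroup.mem_normalizer_iff.mp hz ⟨u, huH⟩).mpr ((hS'mem _).mpr hu)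
        exact (hS'mem _).mp this
    have hzC := hNC z z.2 hzN
    rw [Subgroup.mem_centralizer_iff]
    intro w hw
    apply Subtype.ext
    exact Subgroup.mem_centralizer_iff.mp hzC (w : G) ((hS'mem w).mp hw)
  obtain ⟨K, hKn, hcompl⟩ : ∃ K : Subgroup H, K.Normal ∧ K.IsComplement' (S' : Subgroup H) :=
    ⟨(MonoidHom.transferSylow S' hP).ker, inferInstance,
      MonoidHom.ker_transferSylow_isComplement' S' hP⟩
  refine ⟨K.map H.subtype, Subgroup.map_subtype_le K, ?_, ?_, ?_⟩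
  · intro h hh
    have key : ∀ g ∈ H, ∀ v ∈ K.map H.subtype, g * v * g⁻¹ ∈ K.map H.subtype := by
      rintro g hg _ ⟨k, hk, rfl⟩
      exact ⟨⟨g, hg⟩ * k * ⟨g, hg⟩⁻¹, hKn.conj_mem k hk ⟨g, hg⟩, by simp⟩
    rw [Subgroup.mem_normalizer_iff]
    intro v
    constructor
    · exact key h hh v
    · intro hv
      have := key h⁻¹ (H.inv_mem hh) _ hv
      have e : h⁻¹ * (h * v * h⁻¹) * h⁻¹⁻¹ = v := by group
      rwa [e] at this
  · have h1 := hcompl.card_mul_card
    have h2 : Nat.card (K.map H.subtype) = Nat.card K :=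
      Subgroup.card_map_of_injective H.subtype_injective
    have h3 : Nat.card (S' : Subgroup H) = Nat.card (S : Subgroup G) := by
      rw [hS', Sylow.coe_subtype]
      exact Nat.card_congr (Subgroup.subgroupOfEquivOfLe hSH).toEquiv
    rw [h2, ← h3]; exact h1
  · rw [eq_bot_iff]
    rintro _ ⟨⟨k, hk, rfl⟩, hkS⟩
    have hkS' : k ∈ (S' : Subgroup H) := (hS'mem k).mpr hkS
    have hdisj := hcompl.disjoint
    have : k ∈ K ⊓ (S' : Subgroup H) := ⟨hk, hkS'⟩
    rw [hdisj.eq_bot] at this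
    rw [Subgroup.mem_bot] at this ⊢
    rw [this]; rfl

end Cfsg.Agent.Lib.Helper5.TwoPrime
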